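import Mathlib
import Cfsg.Prelude.Def_Characters
import Cfsg.Agent.S0197.H5_Data
import Cfsg.Agent.S0197.H5_Reps
import Cfsg.Agent.Helper6.PermOrbits
import Cfsg.Agent.Helper6.Induced
import Cfsg.Agent.Helper6.Brauer10
import Cfsg.Agent.Helper6.CharBasic
import Cfsg.Agent.Helper6.Linear

/-!
# S0197, piece Q2 (a): the rational characters of the model `M48` of `GL(2,3)` that are needed

* `eps`: the determinant character (values `±1`);
* `piZ P`: the permutation character of the conjugation action on a class;
* `pi9`: the permutation character of the natural action on `F₃²`.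
-/

set_option autoImplicit false
set_option linter.style.haveILetI false

namespace Cfsg.Agent.GL23U

open Cfsg.Agent.Helper6 Cfsg.Agent.S0197

/-- Any permutation character is a character (copy of `FourTr.isCharacter_permChar` with fewer
imports). -/
theorem h2_isCharacter_permChar {G : Type*} [Group G] [Fintype G] (X : Type*) [MulAction G X]
    [Finite X] : Cfsg.IsCharacter G (fun g : G => (Nat.card (MulAction.fixedBy X g) : ℂ)) := by
  classical
  haveI : Fintype (MulAction.orbitRel.Quotient G X) := Fintype.ofFinite _
  rw [permChar_eq_sum_indFun X (fun ω => Quotient.out ω) (fun ω => Quotient.out_eq' ω)]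
  apply IsCharacter.sum
  intro ω _
  exact isCharacter_indFun _ _ isCharacter_one

/-! ### the determinant character -/

/-- the determinant character, with values in `ℤˣ` -/
def epsU : M48 →* ℤˣ where
  toFun m := if dt m = 1 then 1 else -1
  map_one' := by decide +kernel
  map_mul' := by decide +kernel

/-- the determinant character, integer valued -/
def eps (m : M48) : ℤ := ((epsU m : ℤˣ) : ℤ)

theorem isChar_eps : Cfsg.IsCharacter M48 (fun m => (eps m : ℂ)) := by
  have h := isIrrCharacter_of_hom
    ((Units.map (Int.castRingHom ℂ).toMonoidHom).comp epsU)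
  exact IsIrrCharacter.isCharacter h

/-! ### permutation characters of the conjugation action on classes -/

/-- a conjugation invariant predicate -/
structure CPred where
  /-- the predicate -/
  p : M48 → Bool
  /-- it is invariant -/
  hp : ∀ m c : M48, p (c * m * c⁻¹) = p m

/-- the elements satisfying the predicate, as a type -/
def ClP (P : CPred) : Type := {x : M48 // P.p x = true}

instance (P : CPred) : Fintype (ClP P) := inferInstanceAs (Fintype {x : M48 // P.p x = true})
instance (P : CPred) : DecidableEq (ClP P) :=
  inferInstanceAs (DecidableEq {x : M48 // P.p x = true})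

instance (P : CPred) : MulAction M48 (ClP P) where
  smul c x := ⟨c * x.1 * c⁻¹, by rw [P.hp]; exact x.2⟩
  one_smul x := by
    apply Subtype.ext
    show 1 * x.1 * 1⁻¹ = x.1
    group
  mul_smul c c' x := by
    apply Subtype.ext
    show c * c' * x.1 * (c * c')⁻¹ = c * (c' * x.1 * c'⁻¹) * c⁻¹
    group

/-- number of elements satisfying `P` commuting with `m` -/
def piZ (P : CPred) (m : M48) : ℤ :=
  ((Finset.univ.filter (fun x : M48 => P.p x = true ∧ m * x * m⁻¹ = x)).card : ℤ)

theorem card_fixedBy_clP (P : CPred) (m : M48) :
    (Nat.card (MulAction.fixedBy (ClP P) m) : ℤ) = piZ P m := by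
  classical
  unfold piZ
  rw [Nat.card_eq_fintype_card]
  congr 1
  rw [← Fintype.card_subtype]
  apply Fintype.card_congr
  refine ⟨fun x => ⟨x.1.1, x.1.2, ?_⟩, fun y => ⟨(show ClP P from ⟨y.1, y.2.1⟩), ?_⟩, ?_, ?_⟩
  · have := x.2
    rw [MulAction.mem_fixedBy] at this
    exact congrArg Subtype.val this
  · show (show ClP P from ⟨y.1, y.2.1⟩) ∈ MulAction.fixedBy (ClP P) m
    rw [MulAction.mem_fixedBy]
    apply Subtype.ext
    exact y.2.2
  · intro x; rfl
  · intro y; rfl

theorem isChar_pi (P : CPred) : Cfsg.IsCharacter M48 (fun m => (piZ P m : ℂ)) := by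
  have h := h2_isCharacter_permChar (G := M48) (ClP P)
  have h2 : (fun g : M48 => (Nat.card (MulAction.fixedBy (ClP P) g) : ℂ)) =
      fun m => (piZ P m : ℂ) := by
    funext g
    have := card_fixedBy_clP P g
    exact_mod_cast this
  rw [h2] at h
  exact h

/-- the class of the elements of order `8` and trace `1` -/
def P8a : CPred := ⟨c8a, c8a_conj⟩
/-- the class of the elements of order `3` -/
def P3 : CPred := ⟨c3, c3_conj⟩

/-! ### the natural permutation character on `F₃²` -/

/-- the vectors -/
def V9 : Type := ZMod 3 × ZMod 3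

instance : Fintype V9 := inferInstanceAs (Fintype (ZMod 3 × ZMod 3))
instance : DecidableEq V9 := inferInstanceAs (DecidableEq (ZMod 3 × ZMod 3))

/-- matrix times vector -/
def act9 (m : M48) (v : V9) : V9 :=
  (m.1.1.1 * v.1 + m.1.1.2 * v.2, m.1.2.1 * v.1 + m.1.2.2 * v.2)

theorem act9_one : ∀ v : V9, act9 1 v = v := by decide +kernel

set_option maxRecDepth 100000 in
theorem act9_mul : ∀ (a b : M48) (v : V9), act9 (a * b) v = act9 a (act9 b v) := by
  decide +kernel

instance : MulAction M48 V9 where
  smul := act9
  one_smul := act9_one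
  mul_smul := act9_mul

/-- number of fixed vectors -/
def pi9 (m : M48) : ℤ := ((Finset.univ.filter (fun v : V9 => act9 m v = v)).card : ℤ)

theorem card_fixedBy_V9 (m : M48) : (Nat.card (MulAction.fixedBy V9 m) : ℤ) = pi9 m := by
  classical
  unfold pi9
  rw [Nat.card_eq_fintype_card]
  congr 1
  rw [← Fintype.card_subtype]
  apply Fintype.card_congr
  exact Equiv.subtypeEquivRight (fun x => MulAction.mem_fixedBy)

theorem isChar_pi9 : Cfsg.IsCharacter M48 (fun m => (pi9 m : ℂ)) := by
  have h := h2_isCharacter_permChar (G := M48) V9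
  have h2 : (fun g : M48 => (Nat.card (MulAction.fixedBy V9 g) : ℂ)) = fun m => (pi9 m : ℂ) := by
    funext g
    have := card_fixedBy_V9 g
    exact_mod_cast this
  rw [h2] at h
  exact h

/-! ### the identities -/

set_option maxRecDepth 100000 in
theorem al1_eq : ∀ m : M48, al1 m = piZ P8a m - eps m * piZ P8a m := by decide +kernel

set_option maxRecDepth 100000 in
theorem al3_eq : ∀ m : M48, al3 m = piZ P8a m + 1 + eps m - piZ P3 m := by decide +kernel

set_option maxRecDepth 100000 in
theorem al5_eq : ∀ m : M48, al5 m = 1 + 1 + piZ P3 m - (eps m + pi9 m) := by decide +kernel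

end Cfsg.Agent.GL23U
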