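import Mathlib
import Cfsg.Prelude.Def_Characters
import Cfsg.Agent.Helper6.IndFun

/-!
# Values of a character induced from a linear character of a cyclic subgroup

`indFun ⟨a⟩ μ g = n⁻¹ ∑_{k < n} #{x | x⁻¹ g x = a ^ k} ζ ^ k`, where `n` is the order of `a` and
`ζ = μ a`.
-/

set_option autoImplicit false
set_option linter.style.haveILetI false

namespace Cfsg.Agent.GL23U

open Cfsg.Agent.Helper6

universe u

variable {H : Type u} [Group H]

/-- the generator of `zpowers a`, as an element of it -/
def zgen (a : H) : ↥(Subgroup.zpowers a) := ⟨a, Subgroup.mem_zpowers a⟩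

theorem zgen_pow (a : H) (k : ℕ) : ((zgen a ^ k : ↥(Subgroup.zpowers a)) : H) = a ^ k := by
  rw [Subgroup.coe_pow]
  rfl

/-- The extension by zero of a linear character of a finite cyclic subgroup. -/
theorem extendByZero_zpowers_hom [Finite H] [DecidableEq H] (a : H)
    (μ : ↥(Subgroup.zpowers a) →* ℂˣ) (y : H) :
    Cfsg.extendByZero (Subgroup.zpowers a) (fun z => ((μ z : ℂˣ) : ℂ)) y =
      ∑ k ∈ Finset.range (orderOf a),
        if y = a ^ k then ((μ (zgen a) : ℂˣ) : ℂ) ^ k else 0 := by
  by_cases hy : y ∈ Subgroup.zpowers a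
  · rw [extendByZero_mem _ _ hy]
    have h1 := (mem_zpowers_iff_mem_range_orderOf (x := a) (y := y)).mp hy
    rw [Finset.mem_image] at h1
    obtain ⟨k, hk, hky⟩ := h1
    rw [Finset.sum_eq_single k]
    · rw [if_pos hky.symm]
      have h2 : (⟨y, hy⟩ : ↥(Subgroup.zpowers a)) = zgen a ^ k := by
        apply Subtype.ext
        rw [zgen_pow]
        exact hky.symm
      show ((μ ⟨y, hy⟩ : ℂˣ) : ℂ) = _
      rw [h2, map_pow, Units.val_pow_eq_pow_val]
    · intro j hj hjk
      rw [if_neg]
      intro hyj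
      apply hjk
      rw [Finset.mem_range] at hj hk
      have h3 : a ^ j = a ^ k := by
        rw [← hyj]
        exact hky.symm
      exact pow_injOn_Iio_orderOf hj hk h3
    · intro hk'
      exact absurd hk hk'
  · rw [extendByZero_not_mem _ _ hy]
    symm
    apply Finset.sum_eq_zero
    intro k _
    rw [if_neg]
    intro hyk
    apply hy
    rw [hyk]
    exact Subgroup.pow_mem _ (Subgroup.mem_zpowers a) k

/-- Values of the function induced from a linear character of a cyclic subgroup. -/
theorem indFun_zpowers_hom [Fintype H] [DecidableEq H] (a : H)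
    (μ : ↥(Subgroup.zpowers a) →* ℂˣ) (g : H) :
    Cfsg.indFun (Subgroup.zpowers a) (fun z => ((μ z : ℂˣ) : ℂ)) g =
      (orderOf a : ℂ)⁻¹ * ∑ k ∈ Finset.range (orderOf a),
        ((Finset.univ.filter (fun x : H => x⁻¹ * g * x = a ^ k)).card : ℂ) *
          ((μ (zgen a) : ℂˣ) : ℂ) ^ k := by
  rw [indFun_apply, Nat.card_zpowers]
  congr 1
  simp_rw [extendByZero_zpowers_hom a μ]
  rw [Finset.sum_comm]
  apply Finset.sum_congr rfl
  intro k _
  rw [← Finset.sum_filter, Finset.sum_const, nsmul_eq_mul]

end Cfsg.Agent.GL23U
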