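import Mathlib
import Cfsg.Prelude.Def_Characters
import Cfsg.Agent.S0197.H5_Frame
import Cfsg.Agent.Helper6.Brauer8
import Cfsg.Agent.GL23U.H2_GenCharA
import Cfsg.Agent.GL23U.H2_IndCyc

/-!
# S0197, piece Q2: `θ1 … θ5` are generalized characters of the model `M48` of `GL(2,3)`

`θ1 = π₈ − ε π₈`, `θ3 = π₈ + 1 + ε − π₃`, `θ5 = 1 + 1 + π₃ − (ε + π₉)`,
`θ4 = π₈ + π₉ + ε − (π₃ + 1 + 1 + Ind μ)`, `θ2 = Ind μ − Ind μ⁵`, where `μ` is the faithful linear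
character of the cyclic subgroup of order `8` generated by `r8a`.
-/

set_option autoImplicit false
set_option linter.style.haveILetI false

namespace Cfsg.Agent.GL23U

open Cfsg.Agent.Helper6 Cfsg.Agent.S0197

/-! ### the primitive eighth root of unity -/

/-- `e^{iπ/4}` -/
noncomputable def zeta8 : ℂ := ((Real.sqrt 2 : ℝ) : ℂ) / 2 * (1 + Complex.I)

theorem sqrt2_mul_self : ((Real.sqrt 2 : ℝ) : ℂ) * ((Real.sqrt 2 : ℝ) : ℂ) = 2 := by
  rw [← Complex.ofReal_mul, Real.mul_self_sqrt (by norm_num)]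
  norm_num

theorem zeta8_sq : zeta8 ^ 2 = Complex.I := by
  unfold zeta8
  have h := sqrt2_mul_self
  have hI := Complex.I_mul_I
  linear_combination ((1 + Complex.I) ^ 2 / 4) * h + (1 / 2 : ℂ) * hI

theorem zeta8_pow4 : zeta8 ^ 4 = -1 := by
  have h : zeta8 ^ 4 = (zeta8 ^ 2) ^ 2 := by ring
  rw [h, zeta8_sq, sq, Complex.I_mul_I]

theorem zeta8_pow8 : zeta8 ^ 8 = 1 := by
  have h : zeta8 ^ 8 = (zeta8 ^ 4) ^ 2 := by ring
  rw [h, zeta8_pow4]
  norm_num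

theorem zeta8_add_cube : zeta8 + zeta8 ^ 3 = s2 := by
  have h : zeta8 ^ 3 = zeta8 ^ 2 * zeta8 := by ring
  rw [h, zeta8_sq]
  unfold zeta8 s2
  have hI := Complex.I_mul_I
  linear_combination (((Real.sqrt 2 : ℝ) : ℂ) / 2) * hI

/-- `zeta8` as a unit -/
noncomputable def zeta8U : ℂˣ := Units.ofPowEqOne zeta8 8 zeta8_pow8 (by norm_num)

theorem zeta8U_val : (zeta8U : ℂ) = zeta8 := rfl

theorem zeta8U_pow8 : zeta8U ^ 8 = 1 := Units.pow_ofPowEqOne zeta8_pow8 (by norm_num)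

/-! ### the cyclic subgroup of order `8` and its linear characters -/

theorem orderOf_r8a : orderOf r8a = 8 := by
  rw [orderOf_eq_iff (by norm_num)]
  decide +kernel

theorem orderOf_zgen_r8a : orderOf (zgen r8a) = 8 := by
  unfold zgen
  rw [Subgroup.orderOf_mk, orderOf_r8a]

theorem mem_zpowers_zgen {H : Type*} [Group H] (a : H) (x : ↥(Subgroup.zpowers a)) :
    x ∈ Subgroup.zpowers (zgen a) := by
  obtain ⟨k, hk⟩ := Subgroup.mem_zpowers_iff.mp x.2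
  rw [Subgroup.mem_zpowers_iff]
  refine ⟨k, ?_⟩
  apply Subtype.ext
  rw [Subgroup.coe_zpow]
  exact hk

/-- the linear character of `⟨r8a⟩` with value `u` at `r8a` -/
noncomputable def mu8 (u : ℂˣ) (hu : u ^ 8 = 1) : ↥(Subgroup.zpowers r8a) →* ℂˣ :=
  monoidHomOfForallMemZpowers (g := zgen r8a) (mem_zpowers_zgen r8a)
    (by rw [orderOf_zgen_r8a]; exact orderOf_dvd_of_pow_eq_one hu)

theorem mu8_gen (u : ℂˣ) (hu : u ^ 8 = 1) : mu8 u hu (zgen r8a) = u :=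
  monoidHomOfForallMemZpowers_apply_gen _ _

/-- the induced character -/
noncomputable def ind8 (u : ℂˣ) (hu : u ^ 8 = 1) : M48 → ℂ :=
  Cfsg.indFun (Subgroup.zpowers r8a) (fun z => ((mu8 u hu z : ℂˣ) : ℂ))

theorem isChar_ind8 (u : ℂˣ) (hu : u ^ 8 = 1) : Cfsg.IsCharacter M48 (ind8 u hu) :=
  isCharacter_indFun _ _ (IsIrrCharacter.isCharacter (isIrrCharacter_of_hom (mu8 u hu)))

/-! ### the values of the induced characters -/

/-- number of `x` conjugating `g` to the `k`-th power of `r8a` -/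
def cnt8 (g : M48) (k : ℕ) : ℤ :=
  ((Finset.univ.filter (fun x : M48 => x⁻¹ * g * x = r8a ^ k)).card : ℤ)

/-- the rational part of the induced character -/
def A8 (g : M48) : ℤ := if g = 1 then 6 else if cT g then -6 else 0
/-- the irrational part of the induced character -/
def B8 (g : M48) : ℤ := if c8a g then 1 else if c8b g then -1 else 0

set_option maxRecDepth 100000 in
theorem cnt_04 : ∀ g : M48, cnt8 g 0 - cnt8 g 4 = 8 * A8 g := by decide +kernel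
set_option maxRecDepth 100000 in
theorem cnt_15 : ∀ g : M48, cnt8 g 1 - cnt8 g 5 = 8 * B8 g := by decide +kernel
set_option maxRecDepth 100000 in
theorem cnt_26 : ∀ g : M48, cnt8 g 2 - cnt8 g 6 = 0 := by decide +kernel
set_option maxRecDepth 100000 in
theorem cnt_37 : ∀ g : M48, cnt8 g 3 - cnt8 g 7 = 8 * B8 g := by decide +kernel

theorem ind8_val (u : ℂˣ) (hu : u ^ 8 = 1) (hu4 : (u : ℂ) ^ 4 = -1) (g : M48) :
    ind8 u hu g = (A8 g : ℂ) + (B8 g : ℂ) * ((u : ℂ) + (u : ℂ) ^ 3) := by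
  unfold ind8
  rw [indFun_zpowers_hom r8a (mu8 u hu) g, orderOf_r8a, mu8_gen]
  have h04 : ((cnt8 g 0 : ℤ) : ℂ) - ((cnt8 g 4 : ℤ) : ℂ) = 8 * (A8 g : ℂ) := by
    exact_mod_cast cnt_04 g
  have h15 : ((cnt8 g 1 : ℤ) : ℂ) - ((cnt8 g 5 : ℤ) : ℂ) = 8 * (B8 g : ℂ) := by
    exact_mod_cast cnt_15 g
  have h26 : ((cnt8 g 2 : ℤ) : ℂ) - ((cnt8 g 6 : ℤ) : ℂ) = 0 := by
    exact_mod_cast cnt_26 g
  have h37 : ((cnt8 g 3 : ℤ) : ℂ) - ((cnt8 g 7 : ℤ) : ℂ) = 8 * (B8 g : ℂ) := by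
    exact_mod_cast cnt_37 g
  have hc : ∀ k : ℕ, ((Finset.univ.filter (fun x : M48 => x⁻¹ * g * x = r8a ^ k)).card : ℂ) =
      ((cnt8 g k : ℤ) : ℂ) := by
    intro k
    unfold cnt8
    push_cast
    rfl
  simp only [Finset.sum_range_succ, Finset.sum_range_zero, hc]
  have e5 : (u : ℂ) ^ 5 = -(u : ℂ) := by
    have : (u : ℂ) ^ 5 = (u : ℂ) ^ 4 * u := by ring
    rw [this, hu4]; ring
  have e6 : (u : ℂ) ^ 6 = -(u : ℂ) ^ 2 := by
    have : (u : ℂ) ^ 6 = (u : ℂ) ^ 4 * (u : ℂ) ^ 2 := by ring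
    rw [this, hu4]; ring
  have e7 : (u : ℂ) ^ 7 = -(u : ℂ) ^ 3 := by
    have : (u : ℂ) ^ 7 = (u : ℂ) ^ 4 * (u : ℂ) ^ 3 := by ring
    rw [this, hu4]; ring
  rw [hu4, e5, e6, e7]
  push_cast
  linear_combination (1 / 8 : ℂ) * h04 + ((u : ℂ) / 8) * h15 + ((u : ℂ) ^ 2 / 8) * h26 +
    ((u : ℂ) ^ 3 / 8) * h37

theorem zeta8U_pow5_pow8 : (zeta8U ^ 5) ^ 8 = 1 := by
  rw [← pow_mul, mul_comm, pow_mul, zeta8U_pow8, one_pow]

theorem ind8_zeta (g : M48) :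
    ind8 zeta8U zeta8U_pow8 g = (A8 g : ℂ) + s2 * (B8 g : ℂ) := by
  rw [ind8_val zeta8U zeta8U_pow8 (by rw [zeta8U_val]; exact zeta8_pow4) g, zeta8U_val,
    zeta8_add_cube]
  ring

theorem ind8_zeta5 (g : M48) :
    ind8 (zeta8U ^ 5) zeta8U_pow5_pow8 g = (A8 g : ℂ) - s2 * (B8 g : ℂ) := by
  have hv : ((zeta8U ^ 5 : ℂˣ) : ℂ) = -zeta8 := by
    rw [Units.val_pow_eq_pow_val, zeta8U_val]
    have : zeta8 ^ 5 = zeta8 ^ 4 * zeta8 := by ring
    rw [this, zeta8_pow4]; ring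
  rw [ind8_val (zeta8U ^ 5) zeta8U_pow5_pow8 (by
    rw [hv]
    have : (-zeta8) ^ 4 = zeta8 ^ 4 := by ring
    rw [this, zeta8_pow4]) g, hv]
  have h := zeta8_add_cube
  linear_combination (-(B8 g : ℂ)) * h

/-! ### the identities for the two irrational class functions -/

set_option maxRecDepth 100000 in
theorem al4_eq : ∀ m : M48,
    al4 m = piZ P8a m + pi9 m + eps m - (piZ P3 m + 1 + 1 + A8 m) := by decide +kernel

theorem be4_eq : ∀ m : M48, be4 m = -B8 m := by decide +kernel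

theorem be2_eq : ∀ m : M48, be2 m = 2 * B8 m := by decide +kernel

/-! ### the five generalized characters -/

theorem isGenChar_th1 : Cfsg.IsGeneralizedCharacter M48 th1 := by
  refine ⟨fun m => (piZ P8a m : ℂ), (fun m => (eps m : ℂ)) * (fun m => (piZ P8a m : ℂ)),
    isChar_pi P8a, IsCharacter.mul isChar_eps (isChar_pi P8a), ?_⟩
  funext m
  show th1 m = (piZ P8a m : ℂ) - (eps m : ℂ) * (piZ P8a m : ℂ)
  unfold th1 zf z0
  rw [al1_eq m]
  push_cast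
  ring

theorem isGenChar_th3 : Cfsg.IsGeneralizedCharacter M48 th3 := by
  refine ⟨(fun m => (piZ P8a m : ℂ)) + (fun _ => (1 : ℂ)) + (fun m => (eps m : ℂ)),
    fun m => (piZ P3 m : ℂ),
    IsCharacter.add (IsCharacter.add (isChar_pi P8a) isCharacter_one) isChar_eps,
    isChar_pi P3, ?_⟩
  funext m
  show th3 m = (piZ P8a m : ℂ) + 1 + (eps m : ℂ) - (piZ P3 m : ℂ)
  unfold th3 zf z0
  rw [al3_eq m]
  push_cast
  ring

theorem isGenChar_th5 : Cfsg.IsGeneralizedCharacter M48 th5 := by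
  refine ⟨(fun _ => (1 : ℂ)) + (fun _ => (1 : ℂ)) + (fun m => (piZ P3 m : ℂ)),
    (fun m => (eps m : ℂ)) + (fun m => (pi9 m : ℂ)),
    IsCharacter.add (IsCharacter.add isCharacter_one isCharacter_one) (isChar_pi P3),
    IsCharacter.add isChar_eps isChar_pi9, ?_⟩
  funext m
  show th5 m = (1 : ℂ) + 1 + (piZ P3 m : ℂ) - ((eps m : ℂ) + (pi9 m : ℂ))
  unfold th5 zf z0
  rw [al5_eq m]
  push_cast
  ring

theorem isGenChar_th4 : Cfsg.IsGeneralizedCharacter M48 th4 := by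
  refine ⟨(fun m => (piZ P8a m : ℂ)) + (fun m => (pi9 m : ℂ)) + (fun m => (eps m : ℂ)),
    (fun m => (piZ P3 m : ℂ)) + (fun _ => (1 : ℂ)) + (fun _ => (1 : ℂ)) +
      ind8 zeta8U zeta8U_pow8,
    IsCharacter.add (IsCharacter.add (isChar_pi P8a) isChar_pi9) isChar_eps,
    IsCharacter.add (IsCharacter.add (IsCharacter.add (isChar_pi P3) isCharacter_one)
      isCharacter_one) (isChar_ind8 _ _), ?_⟩
  funext m
  show th4 m = (piZ P8a m : ℂ) + (pi9 m : ℂ) + (eps m : ℂ) -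
    ((piZ P3 m : ℂ) + 1 + 1 + ind8 zeta8U zeta8U_pow8 m)
  rw [ind8_zeta]
  unfold th4 zf
  rw [al4_eq m, be4_eq m]
  push_cast
  ring

theorem isGenChar_th2 : Cfsg.IsGeneralizedCharacter M48 th2 := by
  refine ⟨ind8 zeta8U zeta8U_pow8, ind8 (zeta8U ^ 5) zeta8U_pow5_pow8,
    isChar_ind8 _ _, isChar_ind8 _ _, ?_⟩
  funext m
  show th2 m = ind8 zeta8U zeta8U_pow8 m - ind8 (zeta8U ^ 5) zeta8U_pow5_pow8 m
  rw [ind8_zeta, ind8_zeta5]
  unfold th2 zf z0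
  rw [be2_eq m]
  push_cast
  ring

end Cfsg.Agent.GL23U
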