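import Mathlib
import Cfsg.Prelude.Def_Characters
import Cfsg.Agent.H72.H1_GSetup

/-!
# Complex valued version of `GSetup.Theta`

For `S : GSetup G Mdl sing` and a complex valued function `d` on the model, `ThetaC S d` is the
function on `G` induced from `d ∘ e`.  For integer valued `d` this is `S.Theta d` (by `rfl`).
-/

set_option autoImplicit false
set_option linter.style.haveILetI false

namespace Cfsg.Agent.GL23U

open Cfsg.Agent.Helper6 Cfsg.Agent.Helper6.H72
open scoped ComplexConjugate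

universe u v

variable {G : Type u} [Group G] {Mdl : Type v} [Group Mdl] {sing : Mdl → Bool}
  (S : GSetup G Mdl sing)

/-- the function on `N` given by a complex function on the model -/
def phiC (d : Mdl → ℂ) : S.N → ℂ := fun n => d (S.e n)

/-- the induced function -/
noncomputable def ThetaC [Fintype G] (d : Mdl → ℂ) : G → ℂ := Cfsg.indFun S.N (phiC S d)

theorem ThetaC_int [Fintype G] (d : Mdl → ℤ) : ThetaC S (fun m => (d m : ℂ)) = S.Theta d := rfl

theorem phiC_vanish (d : Mdl → ℂ) (hd : ∀ m, sing m = false → d m = 0) (x : S.N)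
    (hx : (x : G) ∉ S.A) : phiC S d x = 0 := by
  unfold phiC
  apply hd
  by_contra h
  rw [Bool.not_eq_false] at h
  apply hx
  rw [← S.ι_e x, S.ι_mem_A_iff]
  exact h

theorem phiC_classFunction (d : Mdl → ℂ) (hcf : ∀ m c, d (c * m * c⁻¹) = d m) :
    Cfsg.IsClassFunction S.N (phiC S d) := by
  intro g h
  unfold phiC
  rw [map_mul, map_mul, map_inv, hcf]

theorem isGenChar_ThetaC [Fintype G] (d : Mdl → ℂ)
    (hd : Cfsg.IsGeneralizedCharacter Mdl d) :
    Cfsg.IsGeneralizedCharacter G (ThetaC S d) :=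
  IsGeneralizedCharacter.indFun S.N (IsGeneralizedCharacter.comp_hom' S.e.toMonoidHom hd)

theorem ThetaC_isClassFunction [Fintype G] (d : Mdl → ℂ) :
    Cfsg.IsClassFunction G (ThetaC S d) :=
  indFun_isClassFunction S.N (phiC S d)

theorem classInner_ThetaC [Fintype G] [Fintype Mdl] (d d' : Mdl → ℂ)
    (hd : ∀ m, sing m = false → d m = 0)
    (hd' : ∀ m, sing m = false → d' m = 0) (hcf : ∀ m c, d' (c * m * c⁻¹) = d' m) :
    Cfsg.classInner (ThetaC S d) (ThetaC S d') =
      (Fintype.card Mdl : ℂ)⁻¹ * ∑ m : Mdl, d m * conj (d' m) := by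
  classical
  haveI : Fintype S.N := Fintype.ofFinite S.N
  unfold ThetaC
  rw [h1_classInner_indFun_indFun_of_TI S.N S.A (phiC S d) (phiC S d')
    (phiC_classFunction S d' hcf) (phiC_vanish S d hd) (phiC_vanish S d' hd') S.hTI_A]
  unfold Cfsg.classInner
  rw [S.card_N]
  congr 1
  exact S.sum_phi (fun m => d m * conj (d' m))

/-- Frobenius reciprocity transported to the model. -/
theorem classInner_ThetaC_left [Fintype G] [Fintype Mdl] (d : Mdl → ℂ) (χ : G → ℂ)
    (hχ : Cfsg.IsClassFunction G χ) :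
    Cfsg.classInner (ThetaC S d) χ =
      (Fintype.card Mdl : ℂ)⁻¹ * ∑ m : Mdl, d m * conj (χ (S.ι m)) := by
  classical
  haveI : Fintype S.N := Fintype.ofFinite S.N
  unfold ThetaC
  rw [frobenius_reciprocity S.N (phiC S d) _ hχ]
  unfold Cfsg.classInner
  rw [S.card_N]
  congr 1
  have h2 : ∑ n : S.N, phiC S d n * conj ((fun h : S.N => χ (h : G)) n) =
      ∑ n : S.N, (fun m : Mdl => d m * conj (χ (S.ι m))) (S.e n) := by
    apply Finset.sum_congr rfl
    intro n _
    show d (S.e n) * conj (χ (n : G)) = d (S.e n) * conj (χ (S.ι (S.e n)))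
    rw [S.ι_e]
  rw [h2]
  exact S.sum_phi (fun m => d m * conj (χ (S.ι m)))

theorem classInner_ThetaC_one [Fintype G] [Fintype Mdl] (d : Mdl → ℂ) :
    Cfsg.classInner (ThetaC S d) (fun _ => (1 : ℂ)) =
      (Fintype.card Mdl : ℂ)⁻¹ * ∑ m : Mdl, d m := by
  rw [classInner_ThetaC_left S d _ (fun _ _ => rfl)]
  congr 1
  apply Finset.sum_congr rfl
  intro m _
  rw [map_one, mul_one]

theorem ThetaC_eq_zero [Fintype G] (d : Mdl → ℂ) (hd : ∀ m, sing m = false → d m = 0) (g : G)
    (hg : ∀ z : G, z⁻¹ * g * z ∉ S.A) : ThetaC S d g = 0 :=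
  h1_indFun_eq_zero_of_not_conj S.N S.A (phiC S d) (phiC_vanish S d hd) g hg

/-- `ThetaC d` vanishes at elements of square one. -/
theorem ThetaC_eq_zero_of_sq [Fintype G] (hsq : ∀ m : Mdl, sing m = true → m * m ≠ 1)
    (d : Mdl → ℂ) (hd : ∀ m, sing m = false → d m = 0) (g : G) (hg : g * g = 1) :
    ThetaC S d g = 0 :=
  ThetaC_eq_zero S d hd g (S.not_mem_A_of_sq hsq g hg)

theorem ThetaC_add [Fintype G] (d d' : Mdl → ℂ) :
    ThetaC S (fun m => d m + d' m) = ThetaC S d + ThetaC S d' := by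
  unfold ThetaC
  rw [← indFun_add]
  rfl

theorem ThetaC_smul [Fintype G] (c : ℂ) (d : Mdl → ℂ) :
    ThetaC S (fun m => c * d m) = c • ThetaC S d := by
  unfold ThetaC
  rw [← indFun_smul]
  rfl

end Cfsg.Agent.GL23U
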