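import Mathlib
import Cfsg.Prelude.Def_Characters
import Cfsg.Agent.S0197.H5_Data

/-!
# S0197: the five class functions `θ1 … θ5` on the model `M48`, complex valued

`w = i√2`; `th1 = al1`, `th2 = w·be2`, `th3 = al3`, `th4 = al4 + w·be4`, `th5 = al5`.
-/

set_option autoImplicit false

namespace Cfsg.Agent.GL23U

open Cfsg.Agent.S0197
open scoped ComplexConjugate

/-- `i√2` -/
noncomputable def w : ℂ := Complex.I * ((Real.sqrt 2 : ℝ) : ℂ)

theorem w_mul_self : w * w = -2 := by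
  unfold w
  have h : ((Real.sqrt 2 : ℝ) : ℂ) * ((Real.sqrt 2 : ℝ) : ℂ) = 2 := by
    rw [← Complex.ofReal_mul, Real.mul_self_sqrt (by norm_num)]
    norm_num
  calc Complex.I * ((Real.sqrt 2 : ℝ) : ℂ) * (Complex.I * ((Real.sqrt 2 : ℝ) : ℂ))
      = (Complex.I * Complex.I) * (((Real.sqrt 2 : ℝ) : ℂ) * ((Real.sqrt 2 : ℝ) : ℂ)) := by ring
    _ = -2 := by rw [h, Complex.I_mul_I]; ring

theorem conj_w : conj w = -w := by
  unfold w
  rw [map_mul, Complex.conj_I, Complex.conj_ofReal]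
  ring

theorem w_ne_zero : w ≠ 0 := by
  intro h
  have := w_mul_self
  rw [h] at this
  norm_num at this

/-- a complex number `a + w b` with `a b` integers vanishes only if `a = b = 0` -/
theorem int_add_w_eq_zero (a b : ℤ) (h : (a : ℂ) + w * (b : ℂ) = 0) : a = 0 ∧ b = 0 := by
  have hre := congrArg Complex.re h
  have him := congrArg Complex.im h
  unfold w at hre him
  simp at hre him
  exact ⟨hre, him⟩

/-- the general shape -/
noncomputable def mkC (α β : M48 → ℤ) (m : M48) : ℂ := (α m : ℂ) + w * (β m : ℂ)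

/-- `θ1` -/
noncomputable def th1 : M48 → ℂ := mkC al1 (fun _ => 0)
/-- `θ2` -/
noncomputable def th2 : M48 → ℂ := mkC (fun _ => 0) be2
/-- `θ3` -/
noncomputable def th3 : M48 → ℂ := mkC al3 (fun _ => 0)
/-- `θ4` -/
noncomputable def th4 : M48 → ℂ := mkC al4 be4
/-- `θ5` -/
noncomputable def th5 : M48 → ℂ := mkC al5 (fun _ => 0)

theorem mkC_int (α : M48 → ℤ) : mkC α (fun _ => 0) = fun m => (α m : ℂ) := by
  funext m
  unfold mkC
  simp

theorem th1_eq : th1 = fun m => (al1 m : ℂ) := mkC_int al1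
theorem th3_eq : th3 = fun m => (al3 m : ℂ) := mkC_int al3
theorem th5_eq : th5 = fun m => (al5 m : ℂ) := mkC_int al5

theorem mkC_cf (α β : M48 → ℤ) (hα : ∀ m c, α (c * m * c⁻¹) = α m)
    (hβ : ∀ m c, β (c * m * c⁻¹) = β m) (m c : M48) : mkC α β (c * m * c⁻¹) = mkC α β m := by
  unfold mkC
  rw [hα, hβ]

theorem mkC_van (α β : M48 → ℤ) (hα : ∀ m, sing m = false → α m = 0)
    (hβ : ∀ m, sing m = false → β m = 0) (m : M48) (hm : sing m = false) : mkC α β m = 0 := by
  unfold mkC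
  rw [hα m hm, hβ m hm]
  simp

theorem zero_cf (m c : M48) : (fun _ : M48 => (0 : ℤ)) (c * m * c⁻¹) = (fun _ : M48 => (0 : ℤ)) m :=
  rfl

theorem zero_van (m : M48) (_ : sing m = false) : (fun _ : M48 => (0 : ℤ)) m = 0 := rfl

theorem th1_cf : ∀ m c : M48, th1 (c * m * c⁻¹) = th1 m := mkC_cf _ _ al1_cf zero_cf
theorem th2_cf : ∀ m c : M48, th2 (c * m * c⁻¹) = th2 m := mkC_cf _ _ zero_cf be2_cf
theorem th3_cf : ∀ m c : M48, th3 (c * m * c⁻¹) = th3 m := mkC_cf _ _ al3_cf zero_cf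
theorem th4_cf : ∀ m c : M48, th4 (c * m * c⁻¹) = th4 m := mkC_cf _ _ al4_cf be4_cf
theorem th5_cf : ∀ m c : M48, th5 (c * m * c⁻¹) = th5 m := mkC_cf _ _ al5_cf zero_cf

theorem th1_van : ∀ m : M48, sing m = false → th1 m = 0 := mkC_van _ _ al1_van zero_van
theorem th2_van : ∀ m : M48, sing m = false → th2 m = 0 := mkC_van _ _ zero_van be2_van
theorem th3_van : ∀ m : M48, sing m = false → th3 m = 0 := mkC_van _ _ al3_van zero_van
theorem th4_van : ∀ m : M48, sing m = false → th4 m = 0 := mkC_van _ _ al4_van be4_van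
theorem th5_van : ∀ m : M48, sing m = false → th5 m = 0 := mkC_van _ _ al5_van zero_van

/-- Gram sums of two functions of the shape `α + w β`. -/
theorem sum_mkC_conj (α β α' β' : M48 → ℤ) :
    ∑ m : M48, mkC α β m * conj (mkC α' β' m) =
      ((∑ m : M48, α m * α' m + 2 * ∑ m : M48, β m * β' m : ℤ) : ℂ) +
        w * ((∑ m : M48, β m * α' m - ∑ m : M48, α m * β' m : ℤ) : ℂ) := by
  have h1 : ∀ m : M48, mkC α β m * conj (mkC α' β' m) =
      ((α m * α' m : ℤ) : ℂ) + 2 * ((β m * β' m : ℤ) : ℂ) +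
        w * (((β m * α' m : ℤ) : ℂ) - ((α m * β' m : ℤ) : ℂ)) := by
    intro m
    unfold mkC
    rw [map_add, map_mul, conj_w, map_intCast, map_intCast]
    have hw := w_mul_self
    push_cast
    linear_combination (-(β m : ℂ) * (β' m : ℂ)) * hw
  rw [Finset.sum_congr rfl (fun m _ => h1 m)]
  rw [Finset.sum_add_distrib, Finset.sum_add_distrib, ← Finset.mul_sum, ← Finset.mul_sum,
    Finset.sum_sub_distrib]
  push_cast
  ring

theorem sum_mkC (α β : M48 → ℤ) :
    ∑ m : M48, mkC α β m = ((∑ m : M48, α m : ℤ) : ℂ) + w * ((∑ m : M48, β m : ℤ) : ℂ) := by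
  push_cast
  rw [Finset.mul_sum, ← Finset.sum_add_distrib]
  rfl


/-! ### The Gram sums (`48` times the Gram matrix) -/

theorem gram_11 : ∑ m : M48, th1 m * conj (th1 m) = 192 := by
  unfold th1
  rw [sum_mkC_conj]
  simp [sum_al1_al1]

theorem gram_12 : ∑ m : M48, th1 m * conj (th2 m) = 0 := by
  unfold th1 th2
  rw [sum_mkC_conj]
  simp [sum_al1_be2]

theorem gram_13 : ∑ m : M48, th1 m * conj (th3 m) = 96 := by
  unfold th1 th3
  rw [sum_mkC_conj]
  simp [sum_al1_al3]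

theorem gram_14 : ∑ m : M48, th1 m * conj (th4 m) = 0 := by
  unfold th1 th4
  rw [sum_mkC_conj]
  simp [sum_al1_al4, sum_al1_be4]

theorem gram_15 : ∑ m : M48, th1 m * conj (th5 m) = 96 := by
  unfold th1 th5
  rw [sum_mkC_conj]
  simp [sum_al1_al5]

theorem gram_22 : ∑ m : M48, th2 m * conj (th2 m) = 96 := by
  unfold th2
  rw [sum_mkC_conj]
  simp [sum_be2_be2]

theorem gram_23 : ∑ m : M48, th2 m * conj (th3 m) = 0 := by
  unfold th2 th3
  rw [sum_mkC_conj]
  simp [sum_be2_al3]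

theorem gram_24 : ∑ m : M48, th2 m * conj (th4 m) = -48 := by
  unfold th2 th4
  rw [sum_mkC_conj]
  simp [sum_be2_be4, sum_be2_al4]

theorem gram_25 : ∑ m : M48, th2 m * conj (th5 m) = 0 := by
  unfold th2 th5
  rw [sum_mkC_conj]
  simp [sum_be2_al5]

theorem gram_33 : ∑ m : M48, th3 m * conj (th3 m) = 144 := by
  unfold th3
  rw [sum_mkC_conj]
  simp [sum_al3_al3]

theorem gram_34 : ∑ m : M48, th3 m * conj (th4 m) = 48 := by
  unfold th3 th4
  rw [sum_mkC_conj]
  simp [sum_al3_al4, sum_al3_be4]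

theorem gram_35 : ∑ m : M48, th3 m * conj (th5 m) = 48 := by
  unfold th3 th5
  rw [sum_mkC_conj]
  simp [sum_al3_al5]

theorem gram_44 : ∑ m : M48, th4 m * conj (th4 m) = 96 := by
  unfold th4
  rw [sum_mkC_conj]
  have h : ∑ m : M48, be4 m * al4 m = ∑ m : M48, al4 m * be4 m :=
    Finset.sum_congr rfl (fun m _ => mul_comm _ _)
  rw [h, sub_self, sum_al4_al4, sum_be4_be4]
  norm_num

theorem gram_45 : ∑ m : M48, th4 m * conj (th5 m) = 0 := by
  unfold th4 th5
  rw [sum_mkC_conj]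
  simp [sum_al4_al5, sum_be4_al5]

theorem gram_55 : ∑ m : M48, th5 m * conj (th5 m) = 144 := by
  unfold th5
  rw [sum_mkC_conj]
  simp [sum_al5_al5]

/-! ### The sums (`48` times the inner products with the trivial character) -/

theorem sum_th1 : ∑ m : M48, th1 m = 48 := by
  unfold th1; rw [sum_mkC]; simp [sum_al1]
theorem sum_th2 : ∑ m : M48, th2 m = 0 := by
  unfold th2; rw [sum_mkC]; simp [sum_be2]
theorem sum_th3 : ∑ m : M48, th3 m = 48 := by
  unfold th3; rw [sum_mkC]; simp [sum_al3]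
theorem sum_th4 : ∑ m : M48, th4 m = 0 := by
  unfold th4; rw [sum_mkC]; simp [sum_al4, sum_be4]
theorem sum_th5 : ∑ m : M48, th5 m = 48 := by
  unfold th5; rw [sum_mkC]; simp [sum_al5]

/-! ### `48 δ_tt` -/

theorem al_delta : ∀ m : M48, 4 * al4 m + 4 * al5 m - 2 * al3 m - al1 m =
    if m = tt then 48 else 0 := by decide +kernel

theorem be_delta : ∀ m : M48, 4 * be4 m + 2 * be2 m = 0 := by decide +kernel

theorem th_delta (m : M48) :
    4 * th4 m + 4 * th5 m - 2 * th3 m - th1 m + 2 * th2 m = if m = tt then 48 else 0 := by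
  have h1 := al_delta m
  have h2 := be_delta m
  have h1' : (4 : ℂ) * (al4 m : ℂ) + 4 * (al5 m : ℂ) - 2 * (al3 m : ℂ) - (al1 m : ℂ) =
      if m = tt then 48 else 0 := by
    have := congrArg (fun z : ℤ => (z : ℂ)) h1
    push_cast at this
    rw [this]
  have h2' : (4 : ℂ) * (be4 m : ℂ) + 2 * (be2 m : ℂ) = 0 := by exact_mod_cast h2
  unfold th1 th2 th3 th4 th5 mkC
  rw [← h1']
  linear_combination w * h2'

end Cfsg.Agent.GL23U
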