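import Mathlib
import Cfsg.Agent.S0197.H5_Data

/-!
# S0197 (project GL23U), piece Q3: the few extra facts about the model `M48` of `GL(2,3)` needed for
the local group theory (all by `decide +kernel`)
-/

set_option autoImplicit false

namespace Cfsg.Agent.GL23U

open Cfsg.Agent.S0197

/-- a non-central element is not centralized by a subgroup of order 16 -/
theorem h4_cent_card : ∀ z : M48,
    16 ∣ (Finset.univ.filter (fun m : M48 => m * z = z * m)).card → z = 1 ∨ z = tt := by
  decide +kernel

/-- the only involution of determinant one is `tt` -/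
theorem h4_det_one_invol : ∀ m : M48, m * m = 1 → dt m = 1 → m = 1 ∨ m = tt := by
  decide +kernel

/-- the determinant as a homomorphism to `ℤˣ` -/
def h4_delta48 : M48 →* ℤˣ where
  toFun m := if dt m = 1 then 1 else -1
  map_one' := by decide +kernel
  map_mul' := by decide +kernel

theorem h4_delta48_eq_one : ∀ m : M48, h4_delta48 m = 1 ↔ dt m = 1 := by decide +kernel

theorem h4_card_dt_one : (Finset.univ.filter (fun m : M48 => dt m = 1)).card = 24 := by
  decide +kernel

/-- every element of `A` has `tt` among its powers -/
theorem h4_sing_pow (m : M48) (h : sing m = true) : ∃ k : ℕ, m ^ k = tt := by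
  rcases (sing_iff_pow m).mp h with h | h | h | h
  · exact ⟨1, by rw [pow_one]; exact h⟩
  · exact ⟨2, h⟩
  · exact ⟨3, h⟩
  · exact ⟨4, h⟩

end Cfsg.Agent.GL23U
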