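import Mathlib
import Cfsg.Agent.H72.H1_GSetup
import Cfsg.Agent.Helper2.ThompsonTransfer2
import Cfsg.Agent.GL23U.H4_Model

/-!
# S0197 (project GL23U), piece Q3: group theory around `C_G(t) ≅ GL(2,3)`

`t` an involution of the finite group `G`.  The lemmas `h4_*` are stated for an isomorphism
`e : C_G(t) ≃* M48` onto helper5's model; the interface (`setup197`, `two_part197`, `isConj_invol197`,
`card_classFinset197`) is stated for `e : C_G(t) ≃* GL (Fin 2) (ZMod 3)` as in S0197 and uses
`e.trans toGL.symm`.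

* `h4_e_t`: `e t = tt`.
* `h4_TI` / `setup197`: (G1) the set of elements of `C_G(t)` having `t` among their powers is a TI set
  with normalizer `C_G(t)`; packaged as helper1's `GSetup G M48 sing`.
* `h4_exists_sylow`, `h4_two_part`: (G2) some Sylow 2-subgroup of `G` has order 16, lies in `C_G(t)` and
  contains `t`; `16 ∣ |G|`, `¬ 32 ∣ |G|`.
* `h4_invol_conj`, `h4_isConj_invol`: (G3) if `G` is simple, all involutions of `G` are conjugate to `t`.
-/

set_option autoImplicit false
set_option linter.style.haveILetI false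

namespace Cfsg.Agent.GL23U

open Cfsg.Agent.S0197
open Cfsg.Agent.Helper6.H72

/-! ### generalities -/

/-- a cyclic group has at most one element of order two -/
theorem h4_invol_unique {G : Type*} [Group G] [Finite G] (y a b : G)
    (ha : a ∈ Subgroup.zpowers y) (hb : b ∈ Subgroup.zpowers y)
    (oa : orderOf a = 2) (ob : orderOf b = 2) : a = b := by
  classical
  haveI : Fintype (Subgroup.zpowers y) := Fintype.ofFinite _
  have h2 : 2 ∣ Fintype.card (Subgroup.zpowers y) := by
    have := orderOf_dvd_card (x := (⟨a, ha⟩ : Subgroup.zpowers y))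
    rwa [Subgroup.orderOf_mk, oa] at this
  have hcard := IsCyclic.card_orderOf_eq_totient (α := Subgroup.zpowers y) h2
  rw [Nat.totient_two] at hcard
  have hle : (Finset.univ.filter (fun x : Subgroup.zpowers y => orderOf x = 2)).card ≤ 1 := by
    rw [hcard]
  rw [Finset.card_le_one] at hle
  have := hle ⟨a, ha⟩ (by simp [Subgroup.orderOf_mk, oa]) ⟨b, hb⟩ (by simp [Subgroup.orderOf_mk, ob])
  exact congrArg Subtype.val this

variable {G : Type*} [Group G]

theorem h4_t_mem (t : G) : t ∈ Subgroup.centralizer ({t} : Set G) :=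
  Subgroup.mem_centralizer_singleton_iff.mpr rfl

theorem h4_t_sq (t : G) (ht : orderOf t = 2) : t * t = 1 := by
  rw [← pow_two, ← ht, pow_orderOf_eq_one]

theorem h4_t_ne (t : G) (ht : orderOf t = 2) : t ≠ 1 := by
  intro h
  rw [h, orderOf_one] at ht
  omega

/-- the image of `t` in the model is `tt` -/
theorem h4_e_t (t : G) (ht : orderOf t = 2)
    (e : Subgroup.centralizer ({t} : Set G) ≃* M48) : e ⟨t, h4_t_mem t⟩ = tt := by
  have hc : ∀ c : M48, c * e ⟨t, h4_t_mem t⟩ = e ⟨t, h4_t_mem t⟩ * c := by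
    intro b
    obtain ⟨h, rfl⟩ := e.surjective b
    rw [← map_mul, ← map_mul]
    congr 1
    apply Subtype.ext
    exact Subgroup.mem_centralizer_singleton_iff.mp h.2
  rcases center_M48 _ hc with h | h
  · exfalso
    rw [← map_one e] at h
    have := e.injective h
    exact h4_t_ne t ht (congrArg Subtype.val this)
  · exact h

/-- an element of `C_G(t)` whose image has `tt` among its powers has `t` among its powers -/
theorem h4_pow_eq_t (t : G) (ht : orderOf t = 2)
    (e : Subgroup.centralizer ({t} : Set G) ≃* M48) (x : Subgroup.centralizer ({t} : Set G)) (k : ℕ)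
    (hk : (e x) ^ k = tt) : (x : G) ^ k = t := by
  rw [← h4_e_t t ht e, ← map_pow] at hk
  have := e.injective hk
  exact congrArg Subtype.val this

/-- (G1) the TI property -/
theorem h4_TI [Finite G] (t : G) (ht : orderOf t = 2)
    (e : Subgroup.centralizer ({t} : Set G) ≃* M48)
    (x x' : Subgroup.centralizer ({t} : Set G)) (hx : sing (e x) = true) (hx' : sing (e x') = true)
    (z : G) (hz : (x' : G) = z⁻¹ * (x : G) * z) : z ∈ Subgroup.centralizer ({t} : Set G) := by
  obtain ⟨k, hk⟩ := h4_sing_pow _ hx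
  obtain ⟨k', hk'⟩ := h4_sing_pow _ hx'
  have h1 := h4_pow_eq_t t ht e x k hk
  have h2 := h4_pow_eq_t t ht e x' k' hk'
  have hc : ∀ (a : G) (n : ℕ), (z⁻¹ * a * z) ^ n = z⁻¹ * a ^ n * z := by
    intro a n
    induction n with
    | zero => simp
    | succ n ih => rw [pow_succ, ih, pow_succ]; group
  have h3 : (x' : G) ^ k = z⁻¹ * t * z := by
    rw [hz, hc, h1]
  have ho : orderOf (z⁻¹ * t * z) = 2 := by
    have : z⁻¹ * t * z = MulAut.conj z⁻¹ t := by simp
    rw [this, MulEquiv.orderOf_eq, ht]
  have h4 : z⁻¹ * t * z = t := by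
    apply h4_invol_unique (x' : G) _ _ _ _ ho ht
    · exact Subgroup.mem_zpowers_iff.mpr ⟨(k : ℤ), by rw [zpow_natCast]; exact h3⟩
    · exact Subgroup.mem_zpowers_iff.mpr ⟨(k' : ℤ), by rw [zpow_natCast]; exact h2⟩
  rw [Subgroup.mem_centralizer_singleton_iff]
  calc z * t = z * (z⁻¹ * t * z) := by rw [h4]
    _ = t * z := by group

theorem h4_card_centralizer (t : G)
    (e : Subgroup.centralizer ({t} : Set G) ≃* M48) :
    Nat.card (Subgroup.centralizer ({t} : Set G)) = 48 := by
  rw [Nat.card_congr e.toEquiv, Nat.card_eq_fintype_card, card_M48]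

/-- the order of a Sylow 2-subgroup of a group of order 48 -/
theorem h4_card_sylow_48 {H : Type*} [Group H] [Finite H] (hH : Nat.card H = 48) (P : Sylow 2 H) :
    Nat.card P = 16 := by
  rw [Sylow.card_eq_multiplicity, hH]
  have : (48 : ℕ).factorization 2 = 4 := by
    rw [show (48 : ℕ) = 2 ^ 4 * 3 by norm_num, Nat.factorization_mul (by norm_num) (by norm_num),
      Nat.factorization_pow]
    simp [Nat.Prime.factorization_self Nat.prime_two,
      Nat.factorization_eq_zero_of_not_dvd (show ¬ 2 ∣ 3 by norm_num)]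
  rw [this]
  norm_num

/-- the centralizer in `C_G(t)` of an element corresponds to the centralizer in the model -/
theorem h4_card_cent_model (t : G)
    (e : Subgroup.centralizer ({t} : Set G) ≃* M48) (z : Subgroup.centralizer ({t} : Set G)) :
    Nat.card (Subgroup.centralizer ({z} : Set (Subgroup.centralizer ({t} : Set G)))) =
      (Finset.univ.filter (fun m : M48 => m * e z = e z * m)).card := by
  classical
  rw [← Fintype.card_subtype, ← Nat.card_eq_fintype_card]
  apply Nat.card_congr
  refine ⟨fun h => ⟨e h.1, ?_⟩, fun m => ⟨e.symm m.1, ?_⟩, ?_, ?_⟩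
  · have := Subgroup.mem_centralizer_singleton_iff.mp h.2
    rw [← map_mul, ← map_mul, this]
  · rw [Subgroup.mem_centralizer_singleton_iff]
    apply e.injective
    rw [map_mul, map_mul, MulEquiv.apply_symm_apply]
    exact m.2
  · intro h
    apply Subtype.ext
    simp
  · intro m
    apply Subtype.ext
    simp

/-- (G2) some Sylow 2-subgroup of `G` contains `t`, lies in `C_G(t)` and has order 16 -/
theorem h4_exists_sylow [Finite G] (t : G) (ht : orderOf t = 2)
    (e : Subgroup.centralizer ({t} : Set G) ≃* M48) :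
    ∃ P : Sylow 2 G, (P : Subgroup G) ≤ Subgroup.centralizer ({t} : Set G) ∧
      t ∈ (P : Subgroup G) ∧ Nat.card (P : Subgroup G) = 16 := by
  classical
  haveI : Fact (Nat.Prime 2) := ⟨Nat.prime_two⟩
  set H := Subgroup.centralizer ({t} : Set G) with hH
  have hcardH : Nat.card H = 48 := h4_card_centralizer t e
  set tH : H := ⟨t, h4_t_mem t⟩ with htH
  -- a Sylow 2-subgroup of `H` containing `t`
  have htH2 : IsPGroup 2 (Subgroup.zpowers tH) := by
    apply IsPGroup.of_card (n := 1)
    rw [Nat.card_zpowers, pow_one]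
    have : orderOf tH = orderOf t := Subgroup.orderOf_mk t (h4_t_mem t)
    rw [this, ht]
  obtain ⟨P0, hP0⟩ := htH2.exists_le_sylow
  have hP0card : Nat.card P0 = 16 := h4_card_sylow_48 hcardH P0
  have htP0 : tH ∈ (P0 : Subgroup H) := hP0 (Subgroup.mem_zpowers tH)
  -- a Sylow 2-subgroup of `G` containing it
  have hmap : IsPGroup 2 ((P0 : Subgroup H).map H.subtype) := P0.isPGroup'.map H.subtype
  obtain ⟨P, hP⟩ := hmap.exists_le_sylow
  have htP : t ∈ (P : Subgroup G) := hP ⟨tH, htP0, rfl⟩
  -- a nontrivial element of the centre of `P`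
  haveI : Nontrivial (P : Subgroup G) :=
    ⟨⟨⟨t, htP⟩, 1, fun h => h4_t_ne t ht (congrArg Subtype.val h)⟩⟩
  haveI : Nontrivial (Subgroup.center (P : Subgroup G)) := P.isPGroup'.center_nontrivial
  obtain ⟨⟨z, hz⟩, hz1⟩ := exists_ne (1 : Subgroup.center (P : Subgroup G))
  have hzne : (z : G) ≠ 1 := by
    intro h
    apply hz1
    apply Subtype.ext
    apply Subtype.ext
    exact h
  have hzcomm : ∀ p ∈ (P : Subgroup G), p * (z : G) = (z : G) * p := by
    intro p hp
    have := Subgroup.mem_center_iff.mp hz ⟨p, hp⟩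
    exact congrArg Subtype.val this
  -- `z` lies in `H`
  have hzH : (z : G) ∈ H := by
    rw [hH, Subgroup.mem_centralizer_singleton_iff]
    exact (hzcomm t htP).symm
  set zH : H := ⟨(z : G), hzH⟩ with hzHdef
  -- `P0` centralizes `zH`
  have hle : (P0 : Subgroup H) ≤ Subgroup.centralizer ({zH} : Set H) := by
    intro p hp
    rw [Subgroup.mem_centralizer_singleton_iff]
    apply Subtype.ext
    exact hzcomm (p : G) (hP ⟨p, hp, rfl⟩)
  have h16 : 16 ∣ Nat.card (Subgroup.centralizer ({zH} : Set H)) := by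
    rw [← hP0card]
    exact Subgroup.card_dvd_of_le hle
  rw [h4_card_cent_model t e zH] at h16
  have hzt : (z : G) = t := by
    rcases h4_cent_card (e zH) h16 with h | h
    · exfalso
      rw [← map_one e] at h
      have := e.injective h
      exact hzne (congrArg Subtype.val this)
    · rw [← h4_e_t t ht e] at h
      have := e.injective h
      exact congrArg Subtype.val this
  -- so `P ≤ H`
  have hPH : (P : Subgroup G) ≤ H := by
    intro p hp
    rw [hH, Subgroup.mem_centralizer_singleton_iff]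
    rw [← hzt]
    exact hzcomm p hp
  refine ⟨P, hPH, htP, ?_⟩
  -- the order of `P`
  have hsub : IsPGroup 2 ((P : Subgroup G).subgroupOf H) :=
    P.isPGroup'.comap_subtype
  have hle2 : (P0 : Subgroup H) ≤ (P : Subgroup G).subgroupOf H := by
    intro p hp
    rw [Subgroup.mem_subgroupOf]
    exact hP ⟨p, hp, rfl⟩
  have heq := P0.is_maximal' hsub hle2
  have h1 : Nat.card ((P : Subgroup G).subgroupOf H) = 16 := by
    rw [heq]; exact hP0card
  rw [← h1]
  exact (Nat.card_congr (Subgroup.subgroupOfEquivOfLe hPH).toEquiv).symm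

/-- (G2) the 2-part of the order of `G` is 16 -/
theorem h4_two_part [Finite G] (t : G) (ht : orderOf t = 2)
    (e : Subgroup.centralizer ({t} : Set G) ≃* M48) :
    16 ∣ Nat.card G ∧ ¬ 32 ∣ Nat.card G := by
  haveI : Fact (Nat.Prime 2) := ⟨Nat.prime_two⟩
  obtain ⟨P, -, -, hcard⟩ := h4_exists_sylow t ht e
  constructor
  · rw [← hcard]
    exact Subgroup.card_subgroup_dvd_card _
  · intro h32
    have hidx := P.not_dvd_index
    have hmul := Subgroup.card_mul_index (P : Subgroup G)
    rw [hcard] at hmul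
    apply hidx
    rw [← hmul] at h32
    have : (32 : ℕ) = 16 * 2 := by norm_num
    rw [this] at h32
    exact (Nat.mul_dvd_mul_iff_left (by norm_num)).mp h32

/-- the determinant on `C_G(t)` -/
def h4_delta (t : G) (e : Subgroup.centralizer ({t} : Set G) ≃* M48) :
    Subgroup.centralizer ({t} : Set G) →* ℤˣ :=
  h4_delta48.comp e.toMonoidHom

theorem h4_delta_apply (t : G) (e : Subgroup.centralizer ({t} : Set G) ≃* M48)
    (h : Subgroup.centralizer ({t} : Set G)) :
    h4_delta t e h = h4_delta48 (e h) := rfl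

theorem h4_card_ker_delta (t : G) (e : Subgroup.centralizer ({t} : Set G) ≃* M48) :
    Nat.card (h4_delta t e).ker = 24 := by
  classical
  rw [← h4_card_dt_one, ← Fintype.card_subtype, ← Nat.card_eq_fintype_card]
  apply Nat.card_congr
  refine ⟨fun h => ⟨e h.1, ?_⟩, fun m => ⟨e.symm m.1, ?_⟩, ?_, ?_⟩
  · have := MonoidHom.mem_ker.mp h.2
    rw [h4_delta_apply, h4_delta48_eq_one] at this
    exact this
  · rw [MonoidHom.mem_ker, h4_delta_apply, MulEquiv.apply_symm_apply, h4_delta48_eq_one]
    exact m.2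
  · intro h
    apply Subtype.ext
    simp
  · intro m
    apply Subtype.ext
    simp

/-- the subgroup `Q` of index two of the Sylow 2-subgroup `P ≤ C_G(t)`: elements of determinant one -/
def h4_Q (t : G) (e : Subgroup.centralizer ({t} : Set G) ≃* M48) (P : Subgroup G) :
    Subgroup G :=
  ((h4_delta t e).ker ⊓ P.subgroupOf (Subgroup.centralizer ({t} : Set G))).map
    (Subgroup.centralizer ({t} : Set G)).subtype

theorem h4_Q_le (t : G) (e : Subgroup.centralizer ({t} : Set G) ≃* M48) (P : Subgroup G) :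
    h4_Q t e P ≤ P := by
  rintro _ ⟨h, ⟨-, hP⟩, rfl⟩
  exact Subgroup.mem_subgroupOf.mp hP

theorem h4_card_Q [Finite G] (t : G) (e : Subgroup.centralizer ({t} : Set G) ≃* M48)
    (P : Subgroup G) (hPH : P ≤ Subgroup.centralizer ({t} : Set G)) (hP : Nat.card P = 16) :
    Nat.card (h4_Q t e P) = 8 := by
  unfold h4_Q
  rw [Subgroup.card_map_of_injective (Subgroup.subtype_injective _)]
  set K := (h4_delta t e).ker with hK
  set PH := P.subgroupOf (Subgroup.centralizer ({t} : Set G)) with hPHdef
  have hcPH : Nat.card PH = 16 := by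
    rw [← hP]
    exact Nat.card_congr (Subgroup.subgroupOfEquivOfLe hPH).toEquiv
  -- the index of `K ⊓ PH` in `PH` is at most two
  have hr : K.relIndex PH = Nat.card (PH.map (h4_delta t e)) := Subgroup.relIndex_ker _ _
  have hr2 : Nat.card (PH.map (h4_delta t e)) ≤ 2 := by
    have h1 : Nat.card (PH.map (h4_delta t e)) ≤ Nat.card ℤˣ :=
      Nat.card_le_card_of_injective _ (Subgroup.subtype_injective _)
    have h2 : Nat.card ℤˣ = 2 := by
      rw [Nat.card_eq_fintype_card]; decide
    omega
  have hr3 : (K ⊓ PH).relIndex PH = K.relIndex PH := Subgroup.inf_relIndex_right K PH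
  have hmul : Nat.card ((K ⊓ PH).subgroupOf PH) * ((K ⊓ PH).subgroupOf PH).index = Nat.card PH :=
    Subgroup.card_mul_index _
  have hc1 : Nat.card ((K ⊓ PH).subgroupOf PH) = Nat.card (K ⊓ PH : Subgroup _) :=
    Nat.card_congr (Subgroup.subgroupOfEquivOfLe inf_le_right).toEquiv
  have hd24 : Nat.card (K ⊓ PH : Subgroup _) ∣ 24 := by
    rw [← h4_card_ker_delta t e]
    exact Subgroup.card_dvd_of_le inf_le_left
  have hidx : ((K ⊓ PH).subgroupOf PH).index = (K ⊓ PH).relIndex PH := rfl
  rw [hc1, hidx, hr3, hr, hcPH] at hmul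
  have hrpos : 0 < Nat.card (PH.map (h4_delta t e)) := Nat.card_pos
  have : Nat.card (PH.map (h4_delta t e)) = 1 ∨ Nat.card (PH.map (h4_delta t e)) = 2 := by omega
  rcases this with h1 | h2
  · rw [h1, mul_one] at hmul
    rw [hmul] at hd24
    omega
  · rw [h2] at hmul
    omega

theorem h4_relIndex_Q [Finite G] (t : G) (e : Subgroup.centralizer ({t} : Set G) ≃* M48)
    (P : Subgroup G) (hPH : P ≤ Subgroup.centralizer ({t} : Set G)) (hP : Nat.card P = 16) :
    (h4_Q t e P).relIndex P = 2 := by
  have hmul : Nat.card ((h4_Q t e P).subgroupOf P) * ((h4_Q t e P).subgroupOf P).index = Nat.card P :=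
    Subgroup.card_mul_index _
  have hc1 : Nat.card ((h4_Q t e P).subgroupOf P) = Nat.card (h4_Q t e P) :=
    Nat.card_congr (Subgroup.subgroupOfEquivOfLe (h4_Q_le t e P)).toEquiv
  rw [hc1, h4_card_Q t e P hPH hP, hP] at hmul
  have : ((h4_Q t e P).subgroupOf P).index = (h4_Q t e P).relIndex P := rfl
  rw [this] at hmul
  omega

/-- the only involution of `Q` is `t` -/
theorem h4_invol_of_mem_Q (t : G) (ht : orderOf t = 2)
    (e : Subgroup.centralizer ({t} : Set G) ≃* M48) (P : Subgroup G) (w : G)
    (hw : w ∈ h4_Q t e P) (hw2 : orderOf w = 2) : w = t := by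
  obtain ⟨h, ⟨hK, -⟩, rfl⟩ := hw
  have hdet : dt (e h) = 1 := by
    have := MonoidHom.mem_ker.mp hK
    rwa [h4_delta_apply, h4_delta48_eq_one] at this
  have hsq : e h * e h = 1 := by
    rw [← map_mul]
    have : h * h = 1 := by
      apply Subtype.ext
      exact h4_t_sq _ hw2
    rw [this, map_one]
  rcases h4_det_one_invol (e h) hsq hdet with h1 | h1
  · exfalso
    rw [← map_one e] at h1
    have := e.injective h1
    exact h4_t_ne _ hw2 (congrArg Subtype.val this)
  · rw [← h4_e_t t ht e] at h1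
    have := e.injective h1
    exact congrArg Subtype.val this

/-- (G3) in a simple group all involutions are conjugate to `t` -/
theorem h4_invol_conj [Finite G] [IsSimpleGroup G] (t : G) (ht : orderOf t = 2)
    (e : Subgroup.centralizer ({t} : Set G) ≃* M48) (u : G) (hu : orderOf u = 2) :
    ∃ g : G, g * u * g⁻¹ = t := by
  classical
  haveI : Fact (Nat.Prime 2) := ⟨Nat.prime_two⟩
  obtain ⟨P, hPH, htP, hPcard⟩ := h4_exists_sylow t ht e
  -- conjugate `u` into `P`
  have hu2 : IsPGroup 2 (Subgroup.zpowers u) := by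
    apply IsPGroup.of_card (n := 1)
    rw [Nat.card_zpowers, pow_one, hu]
  obtain ⟨P', hP'⟩ := hu2.exists_le_sylow
  obtain ⟨g₀, hg₀⟩ := MulAction.exists_smul_eq G P' P
  have hu'P : g₀ * u * g₀⁻¹ ∈ (P : Subgroup G) := by
    rw [← hg₀]
    rw [Sylow.coe_subgroup_smul, Subgroup.mem_pointwise_smul_iff_inv_smul_mem]
    have : (MulAut.conj g₀)⁻¹ • (g₀ * u * g₀⁻¹) = u := by
      rw [MulAut.smul_def, ← map_inv, MulAut.conj_apply]
      group
    rw [this]
    exact hP' (Subgroup.mem_zpowers u)
  have hu'o : orderOf (g₀ * u * g₀⁻¹) = 2 := by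
    have : g₀ * u * g₀⁻¹ = MulAut.conj g₀ u := by simp [MulAut.conj_apply]
    rw [this, MulEquiv.orderOf_eq, hu]
  -- Thompson transfer
  have hQi := h4_relIndex_Q t e (P : Subgroup G) hPH hPcard
  rcases Cfsg.Agent.Helper2.thompson_transfer_classical P (h4_Q t e (P : Subgroup G)) hQi
    (g₀ * u * g₀⁻¹) hu'o with ⟨M, hMn, hMi, -⟩ | ⟨g, hg⟩
  · exfalso
    rcases hMn.eq_bot_or_eq_top with h | h
    · rw [h, Subgroup.index_bot] at hMi
      have h48 : 48 ∣ Nat.card G := by
        rw [← h4_card_centralizer t e]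
        exact Subgroup.card_subgroup_dvd_card _
      rw [hMi] at h48
      omega
    · rw [h, Subgroup.index_top] at hMi
      omega
  · have ho : orderOf (g * (g₀ * u * g₀⁻¹) * g⁻¹) = 2 := by
      have : g * (g₀ * u * g₀⁻¹) * g⁻¹ = MulAut.conj g (g₀ * u * g₀⁻¹) := by
        simp [MulAut.conj_apply]
      rw [this, MulEquiv.orderOf_eq, hu'o]
    have := h4_invol_of_mem_Q t ht e (P : Subgroup G) _ hg ho
    refine ⟨g * g₀, ?_⟩
    rw [← this]
    group

/-- (G3) in a simple group all involutions are conjugate to `t` (`IsConj` form) -/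
theorem h4_isConj_invol [Finite G] [IsSimpleGroup G] (t : G) (ht : orderOf t = 2)
    (e : Subgroup.centralizer ({t} : Set G) ≃* M48) (u : G) (hu : orderOf u = 2) : IsConj t u := by
  obtain ⟨g, hg⟩ := h4_invol_conj t ht e u hu
  rw [isConj_comm, isConj_iff]
  exact ⟨g, hg⟩

/-- the class of `t` has `|G| / 48` elements -/
theorem h4_card_classFinset [Fintype G] (t : G)
    (e : Subgroup.centralizer ({t} : Set G) ≃* M48) :
    (Cfsg.Agent.Helper6.classFinset t).card * 48 = Nat.card G := by
  rw [Cfsg.Agent.Helper6.card_classFinset, ← h4_card_centralizer t e, mul_comm,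
    Subgroup.card_mul_index]

/-! ### the interface, for `e : C_G(t) ≃* GL (Fin 2) (ZMod 3)` as in S0197 -/

/-- (G1) the `GSetup` of S0197: `N = C_G(t)`, identified with the model `M48` by `e.trans toGL.symm` -/
def setup197 [Finite G] (t : G) (ht : orderOf t = 2)
    (e : Subgroup.centralizer ({t} : Set G) ≃* GL23) : GSetup G M48 sing where
  N := Subgroup.centralizer ({t} : Set G)
  e := e.trans toGL.symm
  hTI := fun x x' hx hx' z hz => h4_TI t ht (e.trans toGL.symm) x x' hx hx' z hz

theorem setup197_N [Finite G] (t : G) (ht : orderOf t = 2)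
    (e : Subgroup.centralizer ({t} : Set G) ≃* GL23) :
    (setup197 t ht e).N = Subgroup.centralizer ({t} : Set G) := rfl

theorem setup197_e [Finite G] (t : G) (ht : orderOf t = 2)
    (e : Subgroup.centralizer ({t} : Set G) ≃* GL23) :
    (setup197 t ht e).e = e.trans toGL.symm := rfl

theorem setup197_ι_tt [Finite G] (t : G) (ht : orderOf t = 2)
    (e : Subgroup.centralizer ({t} : Set G) ≃* GL23) : (setup197 t ht e).ι tt = t := by
  have he : (setup197 t ht e).e ⟨t, h4_t_mem t⟩ = tt := h4_e_t t ht (e.trans toGL.symm)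
  have h := (setup197 t ht e).ι_e ⟨t, h4_t_mem t⟩
  rw [he] at h
  exact h

/-- (G2) -/
theorem two_part197 [Finite G] (t : G) (ht : orderOf t = 2)
    (e : Subgroup.centralizer ({t} : Set G) ≃* GL23) :
    16 ∣ Nat.card G ∧ ¬ 32 ∣ Nat.card G :=
  h4_two_part t ht (e.trans toGL.symm)

/-- (G3) -/
theorem isConj_invol197 [Finite G] [IsSimpleGroup G] (t : G) (ht : orderOf t = 2)
    (e : Subgroup.centralizer ({t} : Set G) ≃* GL23) :
    ∀ u : G, orderOf u = 2 → IsConj t u :=
  fun u hu => h4_isConj_invol t ht (e.trans toGL.symm) u hu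

/-- the class of `t` has `|G| / 48` elements -/
theorem card_classFinset197 [Fintype G] (t : G)
    (e : Subgroup.centralizer ({t} : Set G) ≃* GL23) :
    (Cfsg.Agent.Helper6.classFinset t).card * 48 = Nat.card G :=
  h4_card_classFinset t (e.trans toGL.symm)

theorem card_centralizer197 (t : G)
    (e : Subgroup.centralizer ({t} : Set G) ≃* GL23) :
    Nat.card (Subgroup.centralizer ({t} : Set G)) = 48 :=
  h4_card_centralizer t (e.trans toGL.symm)

end Cfsg.Agent.GL23U
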