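import Mathlib

/-!
# GL23U / Q4: small integer case analyses used in the embedding argument
-/

set_option autoImplicit false
set_option linter.style.haveILetI false

namespace Cfsg.Agent.GL23U

theorem h9_bd3 (p q s : ℤ) (hb : p ^ 2 + q ^ 2 + s ^ 2 ≤ 3) :
    (-1 ≤ p ∧ p ≤ 1) ∧ (-1 ≤ q ∧ q ≤ 1) ∧ (-1 ≤ s ∧ s ≤ 1) := by
  refine ⟨⟨?_, ?_⟩, ⟨?_, ?_⟩, ⟨?_, ?_⟩⟩ <;> nlinarith [sq_nonneg p, sq_nonneg q, sq_nonneg s]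

theorem h9_bd4 (p q s r : ℤ) (hb : p ^ 2 + q ^ 2 + s ^ 2 + r ^ 2 ≤ 3) :
    (-1 ≤ p ∧ p ≤ 1) ∧ (-1 ≤ q ∧ q ≤ 1) ∧ (-1 ≤ s ∧ s ≤ 1) ∧ (-1 ≤ r ∧ r ≤ 1) := by
  refine ⟨⟨?_, ?_⟩, ⟨?_, ?_⟩, ⟨?_, ?_⟩, ⟨?_, ?_⟩⟩ <;>
    nlinarith [sq_nonneg p, sq_nonneg q, sq_nonneg s, sq_nonneg r]

/-- step A: `a α + b β = -1` with unit signs and `α² + β² ≤ 2` -/
theorem h9_caseA (a b α β : ℤ) (ha : a = 1 ∨ a = -1) (hb : b = 1 ∨ b = -1)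
    (hbd : α ^ 2 + β ^ 2 ≤ 2) (e : a * α + b * β = -1) :
    (α = 0 ∧ β = -b) ∨ (β = 0 ∧ α = -a) := by
  obtain ⟨⟨h1, h2⟩, ⟨h3, h4⟩, -⟩ := h9_bd3 α β 0 (by nlinarith)
  rcases ha with rfl | rfl <;> rcases hb with rfl | rfl <;>
    interval_cases α <;> interval_cases β <;> simp_all

/-- step B -/
theorem h9_caseB (sP sQ sS p q s : ℤ) (hsP : sP = 1 ∨ sP = -1) (hsQ : sQ = 1 ∨ sQ = -1)
    (hsS : sS = 1 ∨ sS = -1) (hbd : p ^ 2 + q ^ 2 + s ^ 2 ≤ 2)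
    (e1 : sP * p - sQ * q = 1) (e2 : sQ * q - sS * s = 0) :
    (p = sP ∧ q = 0 ∧ s = 0) ∨ (p = 0 ∧ q = -sQ ∧ s = -sS) := by
  obtain ⟨⟨h1, h2⟩, ⟨h3, h4⟩, ⟨h5, h6⟩⟩ := h9_bd3 p q s (by omega)
  rcases hsP with rfl | rfl <;> rcases hsQ with rfl | rfl <;> rcases hsS with rfl | rfl <;>
    interval_cases p <;> interval_cases q <;> interval_cases s <;> simp_all

/-- step C, the vector `m5` vanishes on `P, Q, S, R` -/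
theorem h9_caseC5 (sP sQ sS sR p q s r : ℤ) (hsP : sP = 1 ∨ sP = -1) (hsQ : sQ = 1 ∨ sQ = -1)
    (hsS : sS = 1 ∨ sS = -1) (hsR : sR = 1 ∨ sR = -1)
    (hbd : p ^ 2 + q ^ 2 + s ^ 2 + r ^ 2 ≤ 2)
    (e1 : sP * p - sR * r = 0) (e2 : sP * p - sQ * q = 0) (e3 : sQ * q - sS * s = 0) :
    p = 0 ∧ q = 0 ∧ s = 0 ∧ r = 0 := by
  obtain ⟨⟨h1, h2⟩, ⟨h3, h4⟩, ⟨h5, h6⟩, ⟨h7, h8⟩⟩ := h9_bd4 p q s r (by omega)
  rcases hsP with rfl | rfl <;> rcases hsQ with rfl | rfl <;> rcases hsS with rfl | rfl <;>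
    rcases hsR with rfl | rfl <;>
    interval_cases p <;> interval_cases q <;> interval_cases s <;> interval_cases r <;> simp_all

/-- step C, the vector `m1` on `P, Q, S, R` -/
theorem h9_caseC1 (sP sQ sS sR p q s r : ℤ) (hsP : sP = 1 ∨ sP = -1) (hsQ : sQ = 1 ∨ sQ = -1)
    (hsS : sS = 1 ∨ sS = -1) (hsR : sR = 1 ∨ sR = -1)
    (hbd : p ^ 2 + q ^ 2 + s ^ 2 + r ^ 2 ≤ 3)
    (e1 : sP * p - sR * r = 1) (e2 : sP * p - sQ * q = 0) (e3 : sQ * q - sS * s = 0) :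
    (p = 0 ∧ q = 0 ∧ s = 0 ∧ r = -sR) ∨ (p = sP ∧ q = sQ ∧ s = sS ∧ r = 0) := by
  obtain ⟨⟨h1, h2⟩, ⟨h3, h4⟩, ⟨h5, h6⟩, ⟨h7, h8⟩⟩ := h9_bd4 p q s r hbd
  rcases hsP with rfl | rfl <;> rcases hsQ with rfl | rfl <;> rcases hsS with rfl | rfl <;>
    rcases hsR with rfl | rfl <;>
    interval_cases p <;> interval_cases q <;> interval_cases s <;> interval_cases r <;> simp_all

/-- step C, the overlap of `m1` and `m5` -/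
theorem h9_caseC15 (c1 c2 x y : ℤ) (hc1 : c1 = 1 ∨ c1 = -1) (hc2 : c2 = 1 ∨ c2 = -1)
    (hbd : x ^ 2 + y ^ 2 ≤ 2) (e : c1 * x + c2 * y = 1) :
    (x = c1 ∧ y = 0) ∨ (x = 0 ∧ y = c2) := by
  obtain ⟨⟨h1, h2⟩, ⟨h3, h4⟩, -⟩ := h9_bd3 x y 0 (by nlinarith)
  rcases hc1 with rfl | rfl <;> rcases hc2 with rfl | rfl <;>
    interval_cases x <;> interval_cases y <;> simp_all

end Cfsg.Agent.GL23U
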