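import Mathlib

/-!
# GL23U / Q4 toolkit: integer vectors of small norm on a finite index set

Generic lemmas on `v : ι → ℤ` (`ι` a `Fintype`): squares at distinct points are bounded by the norm,
a vector whose norm is exhausted by a list of points vanishes elsewhere, existence of further
support points, pointwise formulas and inner products with vectors of small support.
-/

set_option autoImplicit false
set_option linter.style.haveILetI false

namespace Cfsg.Agent.GL23U

variable {ι : Type*} [Fintype ι] [DecidableEq ι]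

/-- squares at the points of a duplicate-free list are bounded by the norm -/
theorem h9_sq_le_norm (v : ι → ℤ) (l : List ι) (hl : l.Nodup) :
    (l.map (fun x => v x ^ 2)).sum ≤ ∑ z, v z ^ 2 := by
  rw [← List.sum_toFinset _ hl]
  exact Finset.sum_le_univ_sum_of_nonneg (fun x => sq_nonneg (v x))

/-- if the norm is exhausted by a duplicate-free list, the vector vanishes elsewhere -/
theorem h9_vanish_off (v : ι → ℤ) (l : List ι) (hl : l.Nodup)
    (heq : (l.map (fun x => v x ^ 2)).sum = ∑ z, v z ^ 2) : ∀ z, z ∉ l → v z = 0 := by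
  intro z hz
  by_contra hne
  have hl' : (z :: l).Nodup := List.nodup_cons.mpr ⟨hz, hl⟩
  have h1 := h9_sq_le_norm v (z :: l) hl'
  rw [List.map_cons, List.sum_cons, heq] at h1
  have h2 : 0 < v z ^ 2 := by positivity
  omega

/-- if the norm is not exhausted by a duplicate-free list, there is a further support point -/
theorem h9_exists_new (v : ι → ℤ) (l : List ι) (hl : l.Nodup)
    (hlt : (l.map (fun x => v x ^ 2)).sum < ∑ z, v z ^ 2) : ∃ z, z ∉ l ∧ v z ≠ 0 := by
  by_contra hcon
  push Not at hcon
  have h1 : ∑ z, v z ^ 2 = ∑ z ∈ l.toFinset, v z ^ 2 := by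
    symm
    apply Finset.sum_subset (Finset.subset_univ _)
    intro z _ hz
    rw [List.mem_toFinset] at hz
    rw [hcon z hz]
    rfl
  rw [h1, List.sum_toFinset _ hl] at hlt
  exact lt_irrefl _ hlt

theorem h9_pm_one (a : ℤ) (h0 : a ≠ 0) (h : a ^ 2 ≤ 3) : a = 1 ∨ a = -1 := by
  have h1 : -2 < a := by nlinarith
  have h2 : a < 2 := by nlinarith
  omega

theorem h9_abs_le_one (a : ℤ) (h : a ^ 2 ≤ 3) : -1 ≤ a ∧ a ≤ 1 := by
  constructor <;> nlinarith

theorem h9_sq_of_pm_one (a : ℤ) (h : a = 1 ∨ a = -1) : a ^ 2 = 1 := by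
  rcases h with rfl | rfl <;> norm_num

/-- inner product with a multiple of a basis vector -/
theorem h9_ip_single (u : ι → ℤ) (x : ι) (a : ℤ) :
    ∑ z, u z * (a * if z = x then 1 else 0) = a * u x := by
  rw [Finset.sum_eq_single x]
  · simp [mul_comm]
  · intro z _ hz
    simp [hz]
  · intro h
    exact absurd (Finset.mem_univ x) h

theorem h9_ip2 (u w : ι → ℤ) (x y : ι) (a b : ℤ)
    (hw : ∀ z, w z = a * (if z = x then 1 else 0) + b * (if z = y then 1 else 0)) :
    ∑ z, u z * w z = a * u x + b * u y := by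
  simp_rw [hw, mul_add, Finset.sum_add_distrib, h9_ip_single]

theorem h9_ip3 (u w : ι → ℤ) (x y t : ι) (a b c : ℤ)
    (hw : ∀ z, w z = a * (if z = x then 1 else 0) + b * (if z = y then 1 else 0) +
      c * (if z = t then 1 else 0)) :
    ∑ z, u z * w z = a * u x + b * u y + c * u t := by
  simp_rw [hw, mul_add, Finset.sum_add_distrib, h9_ip_single]

theorem h9_ip4 (u w : ι → ℤ) (x y t s : ι) (a b c d : ℤ)
    (hw : ∀ z, w z = a * (if z = x then 1 else 0) + b * (if z = y then 1 else 0) +
      c * (if z = t then 1 else 0) + d * (if z = s then 1 else 0)) :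
    ∑ z, u z * w z = a * u x + b * u y + c * u t + d * u s := by
  simp_rw [hw, mul_add, Finset.sum_add_distrib, h9_ip_single]

omit [Fintype ι] in
/-- pointwise formula for a vector vanishing off two distinct points -/
theorem h9_formula2 (v : ι → ℤ) (x y : ι) (hxy : x ≠ y)
    (hvan : ∀ z, z ∉ [x, y] → v z = 0) :
    ∀ z, v z = v x * (if z = x then 1 else 0) + v y * (if z = y then 1 else 0) := by
  intro z
  by_cases h1 : z = x
  · subst h1; simp [hxy]
  by_cases h2 : z = y
  · subst h2; simp [h1]
  · rw [hvan z (by simp [h1, h2])]; simp [h1, h2]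

omit [Fintype ι] in
theorem h9_formula3 (v : ι → ℤ) (x y t : ι) (hxy : x ≠ y) (hxt : x ≠ t) (hyt : y ≠ t)
    (hvan : ∀ z, z ∉ [x, y, t] → v z = 0) :
    ∀ z, v z = v x * (if z = x then 1 else 0) + v y * (if z = y then 1 else 0) +
      v t * (if z = t then 1 else 0) := by
  intro z
  by_cases h1 : z = x
  · subst h1; simp [hxy, hxt]
  by_cases h2 : z = y
  · subst h2; simp [h1, hyt]
  by_cases h3 : z = t
  · subst h3; simp [h1, h2]
  · rw [hvan z (by simp [h1, h2, h3])]; simp [h1, h2, h3]

omit [Fintype ι] in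
theorem h9_formula4 (v : ι → ℤ) (x y t s : ι) (hxy : x ≠ y) (hxt : x ≠ t) (hxs : x ≠ s)
    (hyt : y ≠ t) (hys : y ≠ s) (hts : t ≠ s)
    (hvan : ∀ z, z ∉ [x, y, t, s] → v z = 0) :
    ∀ z, v z = v x * (if z = x then 1 else 0) + v y * (if z = y then 1 else 0) +
      v t * (if z = t then 1 else 0) + v s * (if z = s then 1 else 0) := by
  intro z
  by_cases h1 : z = x
  · subst h1; simp [hxy, hxt, hxs]
  by_cases h2 : z = y
  · subst h2; simp [h1, hyt, hys]
  by_cases h3 : z = t
  · subst h3; simp [h1, h2, hts]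
  by_cases h4 : z = s
  · subst h4; simp [h1, h2, h3]
  · rw [hvan z (by simp [h1, h2, h3, h4])]; simp [h1, h2, h3, h4]

end Cfsg.Agent.GL23U
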