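import Mathlib
import Cfsg.Agent.GL23U.H9_EmbTools
import Cfsg.Agent.GL23U.H9_EmbArith

/-!
# GL23U / Q4, step A: the rows `m4` and `m2`
-/

set_option autoImplicit false
set_option linter.style.haveILetI false

namespace Cfsg.Agent.GL23U

variable {ι : Type*} [Fintype ι] [DecidableEq ι]

/-- a vector of norm two is `a e_P + b e_Q` -/
theorem h9_norm_two (v : ι → ℤ) (hn : ∑ z, v z ^ 2 = 2) :
    ∃ (P Q : ι) (a b : ℤ), P ≠ Q ∧ (a = 1 ∨ a = -1) ∧ (b = 1 ∨ b = -1) ∧ v P = a ∧ v Q = b ∧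
      ∀ z, v z = a * (if z = P then 1 else 0) + b * (if z = Q then 1 else 0) := by
  obtain ⟨P, -, hP⟩ := h9_exists_new v [] List.nodup_nil (by simp [hn])
  have h1 := h9_sq_le_norm v [P] (List.nodup_singleton P)
  simp only [List.map_cons, List.map_nil, List.sum_cons, List.sum_nil, add_zero, hn] at h1
  have ha := h9_pm_one (v P) hP (by omega)
  have ha2 := h9_sq_of_pm_one _ ha
  obtain ⟨Q, hQ', hQ⟩ := h9_exists_new v [P] (List.nodup_singleton P) (by
    simp only [List.map_cons, List.map_nil, List.sum_cons, List.sum_nil, add_zero, hn]; omega)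
  have hPQ : P ≠ Q := by
    intro h
    apply hQ'
    rw [h]
    exact List.mem_singleton.mpr rfl
  have hnd : [P, Q].Nodup := by simp [hPQ]
  have h2 := h9_sq_le_norm v [P, Q] hnd
  simp only [List.map_cons, List.map_nil, List.sum_cons, List.sum_nil, add_zero, hn] at h2
  have hb := h9_pm_one (v Q) hQ (by omega)
  have hb2 := h9_sq_of_pm_one _ hb
  have hvan := h9_vanish_off v [P, Q] hnd (by
    simp only [List.map_cons, List.map_nil, List.sum_cons, List.sum_nil, add_zero, hn]; omega)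
  exact ⟨P, Q, v P, v Q, hPQ, ha, hb, rfl, rfl, h9_formula2 v P Q hPQ hvan⟩

/-- step A with the shared point named -/
theorem h9_stepA_aux (m2 : ι → ℤ) (triv : ι) (g22 : ∑ z, m2 z ^ 2 = 2) (t2 : m2 triv = 0)
    (P Q : ι) (b : ℤ) (hb : b = 1 ∨ b = -1)
    (h2P : m2 P = 0) (h2Q : m2 Q = -b) :
    ∃ (S : ι) (sS : ℤ), (sS = 1 ∨ sS = -1) ∧ S ≠ triv ∧ S ≠ P ∧ S ≠ Q ∧
      ∀ z, m2 z = (-b) * (if z = Q then 1 else 0) + (-sS) * (if z = S then 1 else 0) := by
  have hq2 : m2 Q ^ 2 = 1 := by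
    rw [h2Q]; rcases hb with rfl | rfl <;> norm_num
  obtain ⟨S, hS', hS⟩ := h9_exists_new m2 [Q] (List.nodup_singleton Q) (by
    simp only [List.map_cons, List.map_nil, List.sum_cons, List.sum_nil, add_zero, g22]; omega)
  have hQS : Q ≠ S := by
    intro h
    apply hS'
    rw [h]
    exact List.mem_singleton.mpr rfl
  have hnd : [Q, S].Nodup := by simp [hQS]
  have h2 := h9_sq_le_norm m2 [Q, S] hnd
  simp only [List.map_cons, List.map_nil, List.sum_cons, List.sum_nil, add_zero, g22] at h2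
  have hc := h9_pm_one (m2 S) hS (by omega)
  have hc2 := h9_sq_of_pm_one _ hc
  have hvan := h9_vanish_off m2 [Q, S] hnd (by
    simp only [List.map_cons, List.map_nil, List.sum_cons, List.sum_nil, add_zero, g22]; omega)
  have hf := h9_formula2 m2 Q S hQS hvan
  refine ⟨S, -m2 S, ?_, ?_, ?_, hQS.symm, ?_⟩
  · rcases hc with h | h <;> rw [h] <;> simp
  · intro h; apply hS; rw [h]; exact t2
  · intro h; apply hS; rw [h]; exact h2P
  · intro z
    rw [hf z, h2Q, neg_neg]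

/-- Step A: the rows `m4 = sP e_P - sQ e_Q` and `m2 = sQ e_Q - sS e_S`. -/
theorem h9_stepA (m2 m4 : ι → ℤ) (triv : ι) (g22 : ∑ z, m2 z ^ 2 = 2)
    (g44 : ∑ z, m4 z ^ 2 = 2) (g24 : ∑ z, m2 z * m4 z = -1) (t2 : m2 triv = 0)
    (t4 : m4 triv = 0) :
    ∃ (P Q S : ι) (sP sQ sS : ℤ), (sP = 1 ∨ sP = -1) ∧ (sQ = 1 ∨ sQ = -1) ∧
      (sS = 1 ∨ sS = -1) ∧ P ≠ triv ∧ Q ≠ triv ∧ S ≠ triv ∧ P ≠ Q ∧ P ≠ S ∧ Q ≠ S ∧
      (∀ z, m4 z = sP * (if z = P then 1 else 0) + (-sQ) * (if z = Q then 1 else 0)) ∧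
      (∀ z, m2 z = sQ * (if z = Q then 1 else 0) + (-sS) * (if z = S then 1 else 0)) := by
  obtain ⟨P, Q, a, b, hPQ, ha, hb, hvP, hvQ, hm4⟩ := h9_norm_two m4 g44
  have hPt : P ≠ triv := by
    intro h
    rw [h] at hvP
    rw [t4] at hvP
    rcases ha with h1 | h1 <;> omega
  have hQt : Q ≠ triv := by
    intro h
    rw [h] at hvQ
    rw [t4] at hvQ
    rcases hb with h1 | h1 <;> omega
  have hip := h9_ip2 m2 m4 P Q a b hm4
  rw [g24] at hip
  have hbd := h9_sq_le_norm m2 [P, Q] (by simp [hPQ])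
  simp only [List.map_cons, List.map_nil, List.sum_cons, List.sum_nil, add_zero, g22] at hbd
  rcases h9_caseA a b (m2 P) (m2 Q) ha hb hbd hip.symm with ⟨h2P, h2Q⟩ | ⟨h2Q, h2P⟩
  · obtain ⟨S, sS, hsS, hSt, hSP, hSQ, hm2⟩ :=
      h9_stepA_aux m2 triv g22 t2 P Q b hb h2P h2Q
    refine ⟨P, Q, S, a, -b, sS, ha, ?_, hsS, hPt, hQt, hSt, hPQ, hSP.symm, hSQ.symm, ?_, hm2⟩
    · rcases hb with h | h <;> rw [h] <;> simp
    · intro z; rw [hm4 z, neg_neg]
  · have hm4' : ∀ z, m4 z = b * (if z = Q then 1 else 0) + a * (if z = P then 1 else 0) := by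
      intro z; rw [hm4 z, add_comm]
    obtain ⟨S, sS, hsS, hSt, hSQ, hSP, hm2⟩ :=
      h9_stepA_aux m2 triv g22 t2 Q P a ha h2Q h2P
    refine ⟨Q, P, S, b, -a, sS, hb, ?_, hsS, hQt, hPt, hSt, hPQ.symm, hSQ.symm, hSP.symm, ?_, hm2⟩
    · rcases ha with h | h <;> rw [h] <;> simp
    · intro z; rw [hm4' z, neg_neg]

end Cfsg.Agent.GL23U
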