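import Mathlib
import Cfsg.Agent.GL23U.H9_EmbA

/-!
# GL23U / Q4, step B: the row `m3`
-/

set_option autoImplicit false
set_option linter.style.haveILetI false

namespace Cfsg.Agent.GL23U

variable {ι : Type*} [Fintype ι] [DecidableEq ι]

/-- Step B: `m3 = e_triv + sP e_P - sR e_R` with a new point `R`. -/
theorem h9_stepB (m1 m2 m3 m4 : ι → ℤ) (triv : ι)
    (g12 : ∑ z, m1 z * m2 z = 0) (g13 : ∑ z, m1 z * m3 z = 2)
    (g23 : ∑ z, m2 z * m3 z = 0) (g33 : ∑ z, m3 z ^ 2 = 3) (g34 : ∑ z, m3 z * m4 z = 1)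
    (t1 : m1 triv = 1) (t3 : m3 triv = 1)
    (P Q S : ι) (sP sQ sS : ℤ) (hsP : sP = 1 ∨ sP = -1) (hsQ : sQ = 1 ∨ sQ = -1)
    (hsS : sS = 1 ∨ sS = -1) (hPt : P ≠ triv) (hQt : Q ≠ triv) (hSt : S ≠ triv) (hPQ : P ≠ Q)
    (hPS : P ≠ S) (hQS : Q ≠ S)
    (hm4 : ∀ z, m4 z = sP * (if z = P then 1 else 0) + (-sQ) * (if z = Q then 1 else 0))
    (hm2 : ∀ z, m2 z = sQ * (if z = Q then 1 else 0) + (-sS) * (if z = S then 1 else 0)) :
    ∃ (R : ι) (sR : ℤ), (sR = 1 ∨ sR = -1) ∧ R ≠ triv ∧ R ≠ P ∧ R ≠ Q ∧ R ≠ S ∧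
      m3 Q = 0 ∧ m3 S = 0 ∧
      ∀ z, m3 z = 1 * (if z = triv then 1 else 0) + sP * (if z = P then 1 else 0) +
        (-sR) * (if z = R then 1 else 0) := by
  have e1 := h9_ip2 m3 m4 P Q sP (-sQ) hm4
  rw [g34] at e1
  have g23' : ∑ z, m3 z * m2 z = 0 := by
    rw [← g23]; apply Finset.sum_congr rfl; intro z _; ring
  have e2 := h9_ip2 m3 m2 Q S sQ (-sS) hm2
  rw [g23'] at e2
  have hnd : [triv, P, Q, S].Nodup := by
    simp [hPt.symm, hQt.symm, hSt.symm, hPQ, hPS, hQS]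
  have hbd := h9_sq_le_norm m3 [triv, P, Q, S] hnd
  simp only [List.map_cons, List.map_nil, List.sum_cons, List.sum_nil, add_zero, g33, t3] at hbd
  rcases h9_caseB sP sQ sS (m3 P) (m3 Q) (m3 S) hsP hsQ hsS (by omega) (by linarith) (by linarith)
    with ⟨hp, hq, hs⟩ | ⟨hp, hq, hs⟩
  · -- main case
    have hp2 : m3 P ^ 2 = 1 := by rw [hp]; exact h9_sq_of_pm_one _ hsP
    have hnd2 : [triv, P].Nodup := by simp [hPt.symm]
    obtain ⟨R, hR', hR⟩ := h9_exists_new m3 [triv, P] hnd2 (by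
      simp only [List.map_cons, List.map_nil, List.sum_cons, List.sum_nil, add_zero, g33, t3, hp2]
      norm_num)
    have hRt : R ≠ triv := fun h => hR' (by rw [h]; simp)
    have hRP : R ≠ P := fun h => hR' (by rw [h]; simp)
    have hnd3 : [triv, P, R].Nodup := by simp [hPt.symm, hRt.symm, hRP.symm]
    have h3 := h9_sq_le_norm m3 [triv, P, R] hnd3
    simp only [List.map_cons, List.map_nil, List.sum_cons, List.sum_nil, add_zero, g33, t3,
      hp2] at h3
    have hr := h9_pm_one (m3 R) hR (by omega)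
    have hr2 := h9_sq_of_pm_one _ hr
    have hvan := h9_vanish_off m3 [triv, P, R] hnd3 (by
      simp only [List.map_cons, List.map_nil, List.sum_cons, List.sum_nil, add_zero, g33, t3,
        hp2, hr2]
      norm_num)
    have hf := h9_formula3 m3 triv P R hPt.symm hRt.symm hRP.symm hvan
    refine ⟨R, -m3 R, ?_, hRt, hRP, ?_, ?_, hq, hs, ?_⟩
    · rcases hr with h | h <;> rw [h] <;> simp
    · intro h; apply hR; rw [h]; exact hq
    · intro h; apply hR; rw [h]; exact hs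
    · intro z
      rw [hf z, t3, hp, neg_neg]
  · -- the `D₃`-type: impossible
    exfalso
    have hq2 : m3 Q ^ 2 = 1 := by
      rw [hq]; rcases hsQ with h | h <;> rw [h] <;> norm_num
    have hs2 : m3 S ^ 2 = 1 := by
      rw [hs]; rcases hsS with h | h <;> rw [h] <;> norm_num
    have hnd3 : [triv, Q, S].Nodup := by simp [hQt.symm, hSt.symm, hQS]
    have hvan := h9_vanish_off m3 [triv, Q, S] hnd3 (by
      simp only [List.map_cons, List.map_nil, List.sum_cons, List.sum_nil, add_zero, g33, t3,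
        hq2, hs2]
      norm_num)
    have hf := h9_formula3 m3 triv Q S hQt.symm hSt.symm hQS hvan
    have e3 := h9_ip3 m1 m3 triv Q S (m3 triv) (m3 Q) (m3 S) hf
    rw [g13, t3, t1, hq, hs] at e3
    have e4 := h9_ip2 m1 m2 Q S sQ (-sS) hm2
    rw [g12] at e4
    rcases hsQ with rfl | rfl <;> rcases hsS with rfl | rfl <;> omega

end Cfsg.Agent.GL23U
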