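import Mathlib
import Cfsg.Agent.GL23U.H9_EmbB

/-!
# GL23U / Q4, step C: the rows `m1` and `m5`
-/

set_option autoImplicit false
set_option linter.style.haveILetI false

namespace Cfsg.Agent.GL23U

variable {ι : Type*} [Fintype ι] [DecidableEq ι]

/-- step C once the point `V` shared by `m1` and `m5` is named -/
theorem h9_stepC_aux (m5 : ι → ℤ) (triv : ι) (g55 : ∑ z, m5 z ^ 2 = 3) (t5 : m5 triv = 1)
    (P Q S R V E : ι) (c1 : ℤ) (hc1 : c1 = 1 ∨ c1 = -1)
    (hVt : V ≠ triv)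
    (h5P : m5 P = 0) (h5Q : m5 Q = 0) (h5S : m5 S = 0) (h5R : m5 R = 0)
    (h5V : m5 V = c1) (h5E : m5 E = 0) :
    ∃ (U : ι) (sU : ℤ), (sU = 1 ∨ sU = -1) ∧ U ≠ triv ∧ U ≠ P ∧ U ≠ Q ∧ U ≠ S ∧ U ≠ R ∧
      U ≠ V ∧ U ≠ E ∧
      ∀ z, m5 z = 1 * (if z = triv then 1 else 0) + c1 * (if z = V then 1 else 0) +
        sU * (if z = U then 1 else 0) := by
  have hv2 : m5 V ^ 2 = 1 := by rw [h5V]; exact h9_sq_of_pm_one _ hc1
  have hnd2 : [triv, V].Nodup := by simp [hVt.symm]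
  obtain ⟨U, hU', hU⟩ := h9_exists_new m5 [triv, V] hnd2 (by
    simp only [List.map_cons, List.map_nil, List.sum_cons, List.sum_nil, add_zero, g55, t5, hv2]
    norm_num)
  have hUt : U ≠ triv := fun h => hU' (by rw [h]; simp)
  have hUV : U ≠ V := fun h => hU' (by rw [h]; simp)
  have hnd3 : [triv, V, U].Nodup := by simp [hVt.symm, hUt.symm, hUV.symm]
  have h3 := h9_sq_le_norm m5 [triv, V, U] hnd3
  simp only [List.map_cons, List.map_nil, List.sum_cons, List.sum_nil, add_zero, g55, t5,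
    hv2] at h3
  have hd := h9_pm_one (m5 U) hU (by omega)
  have hd2 := h9_sq_of_pm_one _ hd
  have hvan := h9_vanish_off m5 [triv, V, U] hnd3 (by
    simp only [List.map_cons, List.map_nil, List.sum_cons, List.sum_nil, add_zero, g55, t5,
      hv2, hd2]
    norm_num)
  have hf := h9_formula3 m5 triv V U hVt.symm hUt.symm hUV.symm hvan
  refine ⟨U, m5 U, hd, hUt, ?_, ?_, ?_, ?_, hUV, ?_, ?_⟩
  · intro h; apply hU; rw [h]; exact h5P
  · intro h; apply hU; rw [h]; exact h5Q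
  · intro h; apply hU; rw [h]; exact h5S
  · intro h; apply hU; rw [h]; exact h5R
  · intro h; apply hU; rw [h]; exact h5E
  · intro z
    rw [hf z, t5, h5V]

/-- Step C: `m1 = e_triv - sR e_R - sV e_V - sE e_E`, `m5 = e_triv - sV e_V + sU e_U`. -/
theorem h9_stepC (m1 m2 m3 m4 m5 : ι → ℤ) (triv : ι)
    (g11 : ∑ z, m1 z ^ 2 = 4) (g12 : ∑ z, m1 z * m2 z = 0) (g13 : ∑ z, m1 z * m3 z = 2)
    (g14 : ∑ z, m1 z * m4 z = 0) (g15 : ∑ z, m1 z * m5 z = 2)
    (g25 : ∑ z, m2 z * m5 z = 0) (g35 : ∑ z, m3 z * m5 z = 1) (g45 : ∑ z, m4 z * m5 z = 0)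
    (g55 : ∑ z, m5 z ^ 2 = 3) (t1 : m1 triv = 1) (t5 : m5 triv = 1)
    (P Q S R : ι) (sP sQ sS sR : ℤ) (hsP : sP = 1 ∨ sP = -1) (hsQ : sQ = 1 ∨ sQ = -1)
    (hsS : sS = 1 ∨ sS = -1) (hsR : sR = 1 ∨ sR = -1)
    (hPt : P ≠ triv) (hQt : Q ≠ triv) (hSt : S ≠ triv) (hRt : R ≠ triv) (hPQ : P ≠ Q)
    (hPS : P ≠ S) (hQS : Q ≠ S) (hRP : R ≠ P) (hRQ : R ≠ Q) (hRS : R ≠ S)
    (hm4 : ∀ z, m4 z = sP * (if z = P then 1 else 0) + (-sQ) * (if z = Q then 1 else 0))
    (hm2 : ∀ z, m2 z = sQ * (if z = Q then 1 else 0) + (-sS) * (if z = S then 1 else 0))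
    (hm3 : ∀ z, m3 z = 1 * (if z = triv then 1 else 0) + sP * (if z = P then 1 else 0) +
      (-sR) * (if z = R then 1 else 0)) :
    ∃ (U V E : ι) (sU sV sE : ℤ), (sU = 1 ∨ sU = -1) ∧ (sV = 1 ∨ sV = -1) ∧ (sE = 1 ∨ sE = -1) ∧
      [triv, P, Q, S, R, U, V, E].Nodup ∧
      (∀ z, m1 z = 1 * (if z = triv then 1 else 0) + (-sR) * (if z = R then 1 else 0) +
        (-sV) * (if z = V then 1 else 0) + (-sE) * (if z = E then 1 else 0)) ∧
      (∀ z, m5 z = 1 * (if z = triv then 1 else 0) + (-sV) * (if z = V then 1 else 0) +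
        sU * (if z = U then 1 else 0)) := by
  -- the values of `m1` and `m5` on `P, Q, S, R`
  have a1 := h9_ip3 m1 m3 triv P R 1 sP (-sR) hm3
  rw [g13, t1] at a1
  have a2 := h9_ip2 m1 m4 P Q sP (-sQ) hm4
  rw [g14] at a2
  have a3 := h9_ip2 m1 m2 Q S sQ (-sS) hm2
  rw [g12] at a3
  have g35' : ∑ z, m5 z * m3 z = 1 := by
    rw [← g35]; apply Finset.sum_congr rfl; intro z _; ring
  have g45' : ∑ z, m5 z * m4 z = 0 := by
    rw [← g45]; apply Finset.sum_congr rfl; intro z _; ring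
  have g25' : ∑ z, m5 z * m2 z = 0 := by
    rw [← g25]; apply Finset.sum_congr rfl; intro z _; ring
  have b1 := h9_ip3 m5 m3 triv P R 1 sP (-sR) hm3
  rw [g35', t5] at b1
  have b2 := h9_ip2 m5 m4 P Q sP (-sQ) hm4
  rw [g45'] at b2
  have b3 := h9_ip2 m5 m2 Q S sQ (-sS) hm2
  rw [g25'] at b3
  have hnd5 : [triv, P, Q, S, R].Nodup := by
    simp [hPt.symm, hQt.symm, hSt.symm, hRt.symm, hPQ, hPS, hQS, hRP.symm, hRQ.symm, hRS.symm]
  have hbd1 := h9_sq_le_norm m1 [triv, P, Q, S, R] hnd5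
  simp only [List.map_cons, List.map_nil, List.sum_cons, List.sum_nil, add_zero, g11, t1] at hbd1
  have hbd5 := h9_sq_le_norm m5 [triv, P, Q, S, R] hnd5
  simp only [List.map_cons, List.map_nil, List.sum_cons, List.sum_nil, add_zero, g55, t5] at hbd5
  obtain ⟨h5P, h5Q, h5S, h5R⟩ := h9_caseC5 sP sQ sS sR (m5 P) (m5 Q) (m5 S) (m5 R) hsP hsQ hsS hsR
    (by omega) (by linarith) (by linarith) (by linarith)
  rcases h9_caseC1 sP sQ sS sR (m1 P) (m1 Q) (m1 S) (m1 R) hsP hsQ hsS hsR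
    (by omega) (by linarith) (by linarith) (by linarith) with
    ⟨h1P, h1Q, h1S, h1R⟩ | ⟨h1P, h1Q, h1S, h1R⟩
  · -- main case
    have hr2 : m1 R ^ 2 = 1 := by
      rw [h1R]; rcases hsR with h | h <;> rw [h] <;> norm_num
    have hnd2 : [triv, R].Nodup := by simp [hRt.symm]
    obtain ⟨V, hV', hV⟩ := h9_exists_new m1 [triv, R] hnd2 (by
      simp only [List.map_cons, List.map_nil, List.sum_cons, List.sum_nil, add_zero, g11, t1, hr2]
      norm_num)
    have hVt : V ≠ triv := fun h => hV' (by rw [h]; simp)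
    have hVR : V ≠ R := fun h => hV' (by rw [h]; simp)
    have hnd3 : [triv, R, V].Nodup := by simp [hRt.symm, hVt.symm, hVR.symm]
    have h3 := h9_sq_le_norm m1 [triv, R, V] hnd3
    simp only [List.map_cons, List.map_nil, List.sum_cons, List.sum_nil, add_zero, g11, t1,
      hr2] at h3
    have hc1 := h9_pm_one (m1 V) hV (by omega)
    have hc12 := h9_sq_of_pm_one _ hc1
    obtain ⟨E, hE', hE⟩ := h9_exists_new m1 [triv, R, V] hnd3 (by
      simp only [List.map_cons, List.map_nil, List.sum_cons, List.sum_nil, add_zero, g11, t1, hr2,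
        hc12]
      norm_num)
    have hEt : E ≠ triv := fun h => hE' (by rw [h]; simp)
    have hER : E ≠ R := fun h => hE' (by rw [h]; simp)
    have hEV : E ≠ V := fun h => hE' (by rw [h]; simp)
    have hnd4 : [triv, R, V, E].Nodup := by
      simp [hRt.symm, hVt.symm, hVR.symm, hEt.symm, hER.symm, hEV.symm]
    have h4 := h9_sq_le_norm m1 [triv, R, V, E] hnd4
    simp only [List.map_cons, List.map_nil, List.sum_cons, List.sum_nil, add_zero, g11, t1,
      hr2, hc12] at h4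
    have hc2 := h9_pm_one (m1 E) hE (by omega)
    have hc22 := h9_sq_of_pm_one _ hc2
    have hvan := h9_vanish_off m1 [triv, R, V, E] hnd4 (by
      simp only [List.map_cons, List.map_nil, List.sum_cons, List.sum_nil, add_zero, g11, t1,
        hr2, hc12, hc22]
      norm_num)
    have hf := h9_formula4 m1 triv R V E hRt.symm hVt.symm hEt.symm hVR.symm hER.symm hEV.symm hvan
    have hVP : V ≠ P := fun h => hV (by rw [h]; exact h1P)
    have hVQ : V ≠ Q := fun h => hV (by rw [h]; exact h1Q)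
    have hVS : V ≠ S := fun h => hV (by rw [h]; exact h1S)
    have hEP : E ≠ P := fun h => hE (by rw [h]; exact h1P)
    have hEQ : E ≠ Q := fun h => hE (by rw [h]; exact h1Q)
    have hES : E ≠ S := fun h => hE (by rw [h]; exact h1S)
    -- overlap with `m5`
    have g15' : ∑ z, m5 z * m1 z = 2 := by
      rw [← g15]; apply Finset.sum_congr rfl; intro z _; ring
    have c1 := h9_ip4 m5 m1 triv R V E (m1 triv) (m1 R) (m1 V) (m1 E) hf
    rw [g15', t1, t5, h5R] at c1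
    have hnd3' : [triv, V, E].Nodup := by simp [hVt.symm, hEt.symm, hEV.symm]
    have hbd := h9_sq_le_norm m5 [triv, V, E] hnd3'
    simp only [List.map_cons, List.map_nil, List.sum_cons, List.sum_nil, add_zero, g55, t5] at hbd
    rcases h9_caseC15 (m1 V) (m1 E) (m5 V) (m5 E) hc1 hc2 (by omega) (by linarith) with
      ⟨h5V, h5E⟩ | ⟨h5V, h5E⟩
    · obtain ⟨U, sU, hsU, hUt, hUP, hUQ, hUS, hUR, hUV, hUE, hm5⟩ :=
        h9_stepC_aux m5 triv g55 t5 P Q S R V E (m1 V) hc1 hVt h5P h5Q h5S h5R h5V h5E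
      refine ⟨U, V, E, sU, -m1 V, -m1 E, hsU, ?_, ?_, ?_, ?_, ?_⟩
      · rcases hc1 with h | h <;> rw [h] <;> simp
      · rcases hc2 with h | h <;> rw [h] <;> simp
      · simp [hPt.symm, hQt.symm, hSt.symm, hRt.symm, hPQ, hPS, hQS, hRP.symm, hRQ.symm, hRS.symm,
          hUt.symm, hUP.symm, hUQ.symm, hUS.symm, hUR.symm, hUV, hUE, hVt.symm, hVP.symm, hVQ.symm,
          hVS.symm, hVR.symm, hEt.symm, hEP.symm, hEQ.symm, hES.symm, hER.symm, hEV.symm]
      · intro z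
        rw [hf z, t1, h1R, neg_neg, neg_neg]
      · intro z
        rw [hm5 z, neg_neg]
    · obtain ⟨U, sU, hsU, hUt, hUP, hUQ, hUS, hUR, hUE, hUV, hm5⟩ :=
        h9_stepC_aux m5 triv g55 t5 P Q S R E V (m1 E) hc2 hEt h5P h5Q h5S h5R h5E h5V
      refine ⟨U, E, V, sU, -m1 E, -m1 V, hsU, ?_, ?_, ?_, ?_, ?_⟩
      · rcases hc2 with h | h <;> rw [h] <;> simp
      · rcases hc1 with h | h <;> rw [h] <;> simp
      · simp [hPt.symm, hQt.symm, hSt.symm, hRt.symm, hPQ, hPS, hQS, hRP.symm, hRQ.symm, hRS.symm,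
          hUt.symm, hUP.symm, hUQ.symm, hUS.symm, hUR.symm, hUV, hUE, hVt.symm, hVP.symm, hVQ.symm,
          hVS.symm, hVR.symm, hEt.symm, hEP.symm, hEQ.symm, hES.symm, hER.symm, hEV]
      · intro z
        rw [hf z, t1, h1R, neg_neg, neg_neg]
        ring
      · intro z
        rw [hm5 z, neg_neg]
  · -- `m1 = e_triv + sP e_P + sQ e_Q + sS e_S`: impossible
    exfalso
    have hp2 : m1 P ^ 2 = 1 := by rw [h1P]; exact h9_sq_of_pm_one _ hsP
    have hq2 : m1 Q ^ 2 = 1 := by rw [h1Q]; exact h9_sq_of_pm_one _ hsQ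
    have hs2 : m1 S ^ 2 = 1 := by rw [h1S]; exact h9_sq_of_pm_one _ hsS
    have hnd4 : [triv, P, Q, S].Nodup := by
      simp [hPt.symm, hQt.symm, hSt.symm, hPQ, hPS, hQS]
    have hvan := h9_vanish_off m1 [triv, P, Q, S] hnd4 (by
      simp only [List.map_cons, List.map_nil, List.sum_cons, List.sum_nil, add_zero, g11, t1,
        hp2, hq2, hs2]
      norm_num)
    have hf := h9_formula4 m1 triv P Q S hPt.symm hQt.symm hSt.symm hPQ hPS hQS hvan
    have g15' : ∑ z, m5 z * m1 z = 2 := by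
      rw [← g15]; apply Finset.sum_congr rfl; intro z _; ring
    have c1 := h9_ip4 m5 m1 triv P Q S (m1 triv) (m1 P) (m1 Q) (m1 S) hf
    rw [g15', t1, t5, h5P, h5Q, h5S] at c1
    omega

end Cfsg.Agent.GL23U
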