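import Mathlib
import Cfsg.Agent.GL23U.H9_EmbC

/-!
# GL23U / Q4: uniqueness of the embedding of the `GL(2,3)`-lattice

Five integer vectors `m1 .. m5` on a finite index set with the Gram matrix of `θ1 .. θ5` and the
column `(1,0,1,0,1)` at `triv` are, up to signs, `Θ1 = 1 - R - V - E`, `Θ2 = Q - S`,
`Θ3 = 1 + P - R`, `Θ4 = P - Q`, `Θ5 = 1 + U - V` for seven further distinct points.
-/

set_option autoImplicit false
set_option linter.style.haveILetI false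

namespace Cfsg.Agent.GL23U

variable {ι : Type*} [Fintype ι] [DecidableEq ι]

/-- Uniqueness of the embedding. -/
theorem embedding_unique (m1 m2 m3 m4 m5 : ι → ℤ) (triv : ι)
    (g11 : ∑ x, m1 x * m1 x = 4) (g12 : ∑ x, m1 x * m2 x = 0) (g13 : ∑ x, m1 x * m3 x = 2)
    (g14 : ∑ x, m1 x * m4 x = 0) (g15 : ∑ x, m1 x * m5 x = 2)
    (g22 : ∑ x, m2 x * m2 x = 2) (g23 : ∑ x, m2 x * m3 x = 0) (g24 : ∑ x, m2 x * m4 x = -1)
    (g25 : ∑ x, m2 x * m5 x = 0)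
    (g33 : ∑ x, m3 x * m3 x = 3) (g34 : ∑ x, m3 x * m4 x = 1) (g35 : ∑ x, m3 x * m5 x = 1)
    (g44 : ∑ x, m4 x * m4 x = 2) (g45 : ∑ x, m4 x * m5 x = 0)
    (g55 : ∑ x, m5 x * m5 x = 3)
    (t1 : m1 triv = 1) (t2 : m2 triv = 0) (t3 : m3 triv = 1) (t4 : m4 triv = 0)
    (t5 : m5 triv = 1) :
    ∃ xP xQ xS xR xU xV xE : ι, [triv, xP, xQ, xS, xR, xU, xV, xE].Nodup ∧
      ∃ sP sQ sS sR sU sV sE : ℤ, (sP = 1 ∨ sP = -1) ∧ (sQ = 1 ∨ sQ = -1) ∧ (sS = 1 ∨ sS = -1) ∧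
        (sR = 1 ∨ sR = -1) ∧ (sU = 1 ∨ sU = -1) ∧ (sV = 1 ∨ sV = -1) ∧ (sE = 1 ∨ sE = -1) ∧
        ∀ x,
          m1 x = (if x = triv then 1 else 0) - sR * (if x = xR then 1 else 0)
            - sV * (if x = xV then 1 else 0) - sE * (if x = xE then 1 else 0) ∧
          m2 x = sQ * (if x = xQ then 1 else 0) - sS * (if x = xS then 1 else 0) ∧
          m3 x = (if x = triv then 1 else 0) + sP * (if x = xP then 1 else 0)
            - sR * (if x = xR then 1 else 0) ∧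
          m4 x = sP * (if x = xP then 1 else 0) - sQ * (if x = xQ then 1 else 0) ∧
          m5 x = (if x = triv then 1 else 0) + sU * (if x = xU then 1 else 0)
            - sV * (if x = xV then 1 else 0) := by
  have sq : ∀ m : ι → ℤ, ∑ x, m x ^ 2 = ∑ x, m x * m x := by
    intro m
    apply Finset.sum_congr rfl
    intro x _
    ring
  have g11' : ∑ x, m1 x ^ 2 = 4 := by rw [sq, g11]
  have g22' : ∑ x, m2 x ^ 2 = 2 := by rw [sq, g22]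
  have g33' : ∑ x, m3 x ^ 2 = 3 := by rw [sq, g33]
  have g44' : ∑ x, m4 x ^ 2 = 2 := by rw [sq, g44]
  have g55' : ∑ x, m5 x ^ 2 = 3 := by rw [sq, g55]
  obtain ⟨P, Q, S, sP, sQ, sS, hsP, hsQ, hsS, hPt, hQt, hSt, hPQ, hPS, hQS, hm4, hm2⟩ :=
    h9_stepA m2 m4 triv g22' g44' g24 t2 t4
  obtain ⟨R, sR, hsR, hRt, hRP, hRQ, hRS, -, -, hm3⟩ :=
    h9_stepB m1 m2 m3 m4 triv g12 g13 g23 g33' g34 t1 t3 P Q S sP sQ sS hsP hsQ hsS hPt hQt hSt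
      hPQ hPS hQS hm4 hm2
  obtain ⟨U, V, E, sU, sV, sE, hsU, hsV, hsE, hnd, hm1, hm5⟩ :=
    h9_stepC m1 m2 m3 m4 m5 triv g11' g12 g13 g14 g15 g25 g35 g45 g55' t1 t5 P Q S R sP sQ sS sR
      hsP hsQ hsS hsR hPt hQt hSt hRt hPQ hPS hQS hRP hRQ hRS hm4 hm2 hm3
  refine ⟨P, Q, S, R, U, V, E, hnd, sP, sQ, sS, sR, sU, sV, sE, hsP, hsQ, hsS, hsR, hsU, hsV, hsE,
    ?_⟩
  intro x
  refine ⟨?_, ?_, ?_, ?_, ?_⟩
  · rw [hm1 x]; ring
  · rw [hm2 x]; ring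
  · rw [hm3 x]; ring
  · rw [hm4 x]; ring
  · rw [hm5 x]; ring

end Cfsg.Agent.GL23U
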